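import Cfsg.Agent.Cit.TypeDet.Many
import Cfsg.Agent.Cit.Defs
set_option linter.all false

/-!
# Type determination: the system of a frame

`cm K L`: the subgroups commute elementwise.  `K : ι → Subgroup G` is a frame: pairwise commuting members of
`Om`.  `OmA A = {L ∈ Om : L commutes with K_k for all k ∉ A}`, `rel A` is the relation on `A` generated by
'two members of `OmA A` do not commute' (ruling (B2) of bb #6710).  This is a `Sys` in the sense of
`TypeDet/Frame.lean` without any further hypothesis.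
-/

set_option autoImplicit false

namespace Cfsg.Agent.Cit.TypeDet

open Subgroup Finset Classical Relation

variable {G : Type*} [Group G]

/-- elementwise commuting subgroups -/
def cm (K L : Subgroup G) : Prop := ∀ x ∈ K, ∀ y ∈ L, x * y = y * x

theorem cm_symm {K L : Subgroup G} (h : cm K L) : cm L K := fun x hx y hy => (h y hy x hx).symm

theorem cm_comm {K L : Subgroup G} : cm K L ↔ cm L K := ⟨cm_symm, cm_symm⟩

theorem cm_iff_le_centralizer {K L : Subgroup G} : cm K L ↔ K ≤ centralizer (L : Set G) := by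
  constructor
  · intro h x hx
    rw [mem_centralizer_iff]
    exact fun y hy => (h x hx y hy).symm
  · intro h x hx y hy
    exact (mem_centralizer_iff.mp (h hx) y hy).symm

theorem cm_mono {K K' L L' : Subgroup G} (hK : K ≤ K') (hL : L ≤ L') (h : cm K' L') : cm K L :=
  fun x hx y hy => h x (hK hx) y (hL hy)

theorem cm_iSup {κ : Sort*} {L : κ → Subgroup G} {K : Subgroup G} (h : ∀ i, cm (L i) K) :
    cm (⨆ i, L i) K := by
  rw [cm_iff_le_centralizer]
  exact iSup_le fun i => cm_iff_le_centralizer.mp (h i)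

theorem cm_sSup {T : Set (Subgroup G)} {K : Subgroup G} (h : ∀ L ∈ T, cm L K) :
    cm (sSup T) K := by
  rw [cm_iff_le_centralizer]
  exact sSup_le fun L hL => cm_iff_le_centralizer.mp (h L hL)

theorem cm_cj {g : G} {K L : Subgroup G} : cm (cj g K) (cj g L) ↔ cm K L := by
  constructor
  · intro h x hx y hy
    have := h _ (conj_mem_cj (g := g) hx) _ (conj_mem_cj (g := g) hy)
    have h2 : g * (x * y) * g⁻¹ = g * (y * x) * g⁻¹ := by
      calc g * (x * y) * g⁻¹ = (g * x * g⁻¹) * (g * y * g⁻¹) := by group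
        _ = (g * y * g⁻¹) * (g * x * g⁻¹) := this
        _ = g * (y * x) * g⁻¹ := by group
    exact mul_left_cancel (mul_right_cancel h2)
  · intro h x hx y hy
    rw [mem_cj] at hx hy
    have := h _ hx _ hy
    calc x * y = g * ((g⁻¹ * x * g) * (g⁻¹ * y * g)) * g⁻¹ := by group
      _ = g * ((g⁻¹ * y * g) * (g⁻¹ * x * g)) * g⁻¹ := by rw [this]
      _ = y * x := by group

section Frame

variable {ι : Type*} [Fintype ι]

/-- `Om ∩ ⋂_{k ∉ A} C(K_k)` -/
def OmA (Om : Set (Subgroup G)) (K : ι → Subgroup G) (A : Finset ι) : Set (Subgroup G) :=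
  {L | L ∈ Om ∧ ∀ k, k ∉ A → cm L (K k)}

/-- `Y_A` -/
def YA (Om : Set (Subgroup G)) (K : ι → Subgroup G) (A : Finset ι) : Subgroup G :=
  sSup (OmA Om K A)

/-- one step of the relation -/
def stp (T : Set (Subgroup G)) (L M : Subgroup G) : Prop := L ∈ T ∧ M ∈ T ∧ ¬ cm L M

theorem stp_symm {T : Set (Subgroup G)} {L M : Subgroup G} (h : stp T L M) : stp T M L :=
  ⟨h.2.1, h.1, fun h' => h.2.2 (cm_symm h')⟩

/-- chains of non-commuting members of `T` -/
def chn (T : Set (Subgroup G)) : Subgroup G → Subgroup G → Prop := ReflTransGen (stp T)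

theorem chn_symm {T : Set (Subgroup G)} {L M : Subgroup G} (h : chn T L M) : chn T M L := by
  induction h with
  | refl => exact ReflTransGen.refl
  | tail _ h2 ih => exact ReflTransGen.head (stp_symm h2) ih

theorem chn_mono {T T' : Set (Subgroup G)} (hT : T ⊆ T') {L M : Subgroup G} (h : chn T L M) :
    chn T' L M := by
  induction h with
  | refl => exact ReflTransGen.refl
  | tail _ h2 ih => exact ih.tail ⟨hT h2.1, hT h2.2.1, h2.2.2⟩

variable {Om : Set (Subgroup G)} {K : ι → Subgroup G}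

omit [Fintype ι] in
theorem OmA_mono {A B : Finset ι} (h : A ⊆ B) : OmA Om K A ⊆ OmA Om K B :=
  fun _ hL => ⟨hL.1, fun k hk => hL.2 k (fun h' => hk (h h'))⟩

omit [Fintype ι] in
theorem mem_OmA (hK : ∀ i, K i ∈ Om) (hc : ∀ i j, i ≠ j → cm (K i) (K j)) {A : Finset ι} {i : ι}
    (hi : i ∈ A) : K i ∈ OmA Om K A :=
  ⟨hK i, fun k hk => hc i k (fun e => hk (e ▸ hi))⟩

/-- the relation `~_A` on the frame -/
def frel (Om : Set (Subgroup G)) (K : ι → Subgroup G) (A : Finset ι) (i j : ι) : Prop :=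
  i ∈ A ∧ j ∈ A ∧ chn (OmA Om K A) (K i) (K j)

/-- the block system of a frame -/
def sys (Om : Set (Subgroup G)) (K : ι → Subgroup G) (hK : ∀ i, K i ∈ Om)
    (hc : ∀ i j, i ≠ j → cm (K i) (K j)) : Sys ι where
  rel := frel Om K
  refl := fun _ hi => ⟨hi, hi, ReflTransGen.refl⟩
  memL := fun h => h.1
  symm := fun h => ⟨h.2.1, h.1, chn_symm h.2.2⟩
  trans := fun h h' => ⟨h.1, h'.2.1, h.2.2.trans h'.2.2⟩
  restr := by
    intro A B i j hAB hB hi
    constructor
    · rintro ⟨-, hj, h⟩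
      have key : ∀ L, chn (OmA Om K A) (K i) L →
          chn (OmA Om K (A.filter (frel Om K B i))) (K i) L ∧
            L ∈ OmA Om K (A.filter (frel Om K B i)) := by
        intro L hL
        induction hL with
        | refl =>
          refine ⟨ReflTransGen.refl, mem_OmA hK hc ?_⟩
          rw [mem_filter]
          exact ⟨hi, hAB hi, hAB hi, ReflTransGen.refl⟩
        | @tail L M h1 h2 ih =>
          obtain ⟨c1, c2⟩ := ih
          have hM : M ∈ OmA Om K (A.filter (frel Om K B i)) := by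
            refine ⟨h2.2.1.1, fun k hk => ?_⟩
            by_cases hkA : k ∈ A
            · by_contra hn
              apply hk
              rw [mem_filter]
              refine ⟨hkA, hAB hi, hAB hkA, ?_⟩
              have s1 : chn (OmA Om K B) (K i) M :=
                chn_mono (OmA_mono hAB) (h1.tail h2)
              exact s1.tail ⟨OmA_mono hAB h2.2.1, mem_OmA hK hc (hAB hkA), hn⟩
            · exact h2.2.1.2 k hkA
          exact ⟨c1.tail ⟨c2, hM, h2.2.2⟩, hM⟩
      obtain ⟨c1, c2⟩ := key _ h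
      refine ⟨?_, ?_, c1⟩
      · rw [mem_filter]
        exact ⟨hi, hAB hi, hAB hi, ReflTransGen.refl⟩
      · rw [mem_filter]
        exact ⟨hj, hAB hi, hAB hj, chn_mono (OmA_mono hAB) h⟩
    · rintro ⟨-, hj, h⟩
      exact ⟨hi, (mem_filter.mp hj).1, chn_mono (OmA_mono (filter_subset _ _)) h⟩

/-- `zz K ∈ K` without any hypothesis -/
theorem zz_mem' (K : Subgroup G) : zz K ∈ K := by
  by_cases h : ∃ t ∈ K, orderOf t = 2
  · exact (zz_spec h).1
  · rw [zz, dif_neg h]; exact one_mem K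

omit [Fintype ι] in
theorem cm_YA {A : Finset ι} {k : ι} (hk : k ∉ A) : cm (YA Om K A) (K k) :=
  cm_sSup fun _ hM => hM.2 k hk

/-- the data of a frame -/
noncomputable def data (Om : Set (Subgroup G)) (K : ι → Subgroup G) (hK : ∀ i, K i ∈ Om)
    (hc : ∀ i j, i ≠ j → cm (K i) (K j)) : Data ι G where
  toSys := sys Om K hK hc
  z := fun i => zz (K i)
  sgl := fun i => ∀ L ∈ OmA Om K {i}, L = K i
  cen := fun A k => ∀ x ∈ YA Om K A, x * zz (K k) = zz (K k) * x
  cen_of_notMem := fun hk x hx => cm_YA hk x hx _ (zz_mem' _)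
  cen_congr := fun e h => by rw [← e]; exact h

/-! ### Members of `Y_B` -/

omit [Fintype ι] in
theorem mem_OmA_of_le {B : Finset ι} {L : Subgroup G} (hL : L ∈ Om) (hB : L ≤ YA Om K B) :
    L ∈ OmA Om K B :=
  ⟨hL, fun k hk => cm_mono hB le_rfl (cm_sSup fun _ hM => hM.2 k hk)⟩

omit [Fintype ι] in
theorem le_YA {B : Finset ι} {L : Subgroup G} (hL : L ∈ OmA Om K B) : L ≤ YA Om K B :=
  le_sSup hL

omit [Fintype ι] in
/-- for `A ⊆ B`, `OmA A` is computed in `Y_B`: the members of `Om` in `Y_B` commuting with `K_k`,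
`k ∈ B - A` -/
theorem mem_OmA_iff {A B : Finset ι} (h : A ⊆ B) {L : Subgroup G} :
    L ∈ OmA Om K A ↔ L ∈ Om ∧ L ≤ YA Om K B ∧ ∀ k ∈ B, k ∉ A → cm L (K k) := by
  constructor
  · intro hL
    exact ⟨hL.1, le_YA (OmA_mono h hL), fun k _ hk => hL.2 k hk⟩
  · rintro ⟨h1, h2, h3⟩
    refine ⟨h1, fun k hk => ?_⟩
    by_cases hkB : k ∈ B
    · exact h3 k hkB hk
    · exact (mem_OmA_of_le h1 h2).2 k hkB

omit [Fintype ι] in
/-- `Y_A ≤ Y_B` -/
theorem YA_mono {A B : Finset ι} (h : A ⊆ B) : YA Om K A ≤ YA Om K B := sSup_le_sSup (OmA_mono h)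

/-! ### Automorphisms of the frame -/

theorem cj_injective' (g : G) : Function.Injective (cj g : Subgroup G → Subgroup G) :=
  fun _ _ h => cj_inj.1 h

theorem chn_cj {T T' : Set (Subgroup G)} {g : G} (hT : ∀ L ∈ T, cj g L ∈ T') {L M : Subgroup G}
    (h : chn T L M) : chn T' (cj g L) (cj g M) := by
  induction h with
  | refl => exact ReflTransGen.refl
  | tail _ h2 ih => exact ih.tail ⟨hT _ h2.1, hT _ h2.2.1, fun h' => h2.2.2 (cm_cj.mp h')⟩

omit [Fintype ι] in
theorem cj_mem_OmA (hO : ∀ L ∈ Om, ∀ g, cj g L ∈ Om) {g : G} {σ : Equiv.Perm ι}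
    (hσ : ∀ i, cj g (K i) = K (σ i)) {A : Finset ι} {L : Subgroup G} :
    cj g L ∈ OmA Om K (A.map σ.toEmbedding) ↔ L ∈ OmA Om K A := by
  have hm : ∀ k, σ k ∈ A.map σ.toEmbedding ↔ k ∈ A := fun k => Data.mem_map_emb σ.toEmbedding
  constructor
  · rintro ⟨h1, h2⟩
    refine ⟨by have := hO _ h1 g⁻¹; rwa [cj_inv_cj] at this, fun k hk => ?_⟩
    have h3 := h2 (σ k) (fun h => hk ((hm k).mp h))
    rw [← hσ k, cm_cj] at h3
    exact h3
  · rintro ⟨h1, h2⟩
    refine ⟨hO _ h1 g, fun k hk => ?_⟩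
    obtain ⟨k, rfl⟩ := σ.surjective k
    rw [← hσ k, cm_cj]
    exact h2 k (fun h => hk ((hm k).mpr h))

omit [Fintype ι] in
theorem YA_map (hO : ∀ L ∈ Om, ∀ g, cj g L ∈ Om) {g : G} {σ : Equiv.Perm ι}
    (hσ : ∀ i, cj g (K i) = K (σ i)) (A : Finset ι) :
    YA Om K (A.map σ.toEmbedding) = cj g (YA Om K A) := by
  apply le_antisymm
  · refine sSup_le fun L hL => ?_
    rw [← cj_cj_inv g L]
    refine cj_mono g (le_YA ?_)
    rw [← cj_mem_OmA hO hσ, cj_cj_inv]
    exact hL
  · rw [← cj_le_cj (g := g⁻¹), cj_inv_cj]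
    refine sSup_le fun L hL => ?_
    rw [← cj_inv_cj g L]
    exact cj_mono g⁻¹ (le_YA ((cj_mem_OmA hO hσ).mpr hL))

theorem conj_comm_iff {g x y : G} :
    (g * x * g⁻¹) * (g * y * g⁻¹) = (g * y * g⁻¹) * (g * x * g⁻¹) ↔ x * y = y * x := by
  constructor
  · intro h
    have h2 : g * (x * y) * g⁻¹ = g * (y * x) * g⁻¹ := by
      calc g * (x * y) * g⁻¹ = (g * x * g⁻¹) * (g * y * g⁻¹) := by group
        _ = (g * y * g⁻¹) * (g * x * g⁻¹) := h
        _ = g * (y * x) * g⁻¹ := by group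
    exact mul_left_cancel (mul_right_cancel h2)
  · intro h
    calc (g * x * g⁻¹) * (g * y * g⁻¹) = g * (x * y) * g⁻¹ := by group
      _ = g * (y * x) * g⁻¹ := by rw [h]
      _ = _ := by group

/-- an element permuting the frame induces an automorphism of the data -/
theorem isAut (hK : ∀ i, K i ∈ Om) (hc : ∀ i j, i ≠ j → cm (K i) (K j))
    (hO : ∀ L ∈ Om, ∀ g, cj g L ∈ Om) (hz : ∀ i, ∀ g, zz (cj g (K i)) = g * zz (K i) * g⁻¹)
    {g : G} {σ : Equiv.Perm ι} (hσ : ∀ i, cj g (K i) = K (σ i)) :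
    (data Om K hK hc).IsAut σ := by
  have hσ' : ∀ i, cj g⁻¹ (K (σ i)) = K i := fun i => by rw [← hσ, cj_inv_cj]
  have hz' : ∀ i, zz (K (σ i)) = g * zz (K i) * g⁻¹ := fun i => by rw [← hσ i, hz]
  have hm : ∀ (A : Finset ι) k, σ k ∈ A.map σ.toEmbedding ↔ k ∈ A :=
    fun A k => Data.mem_map_emb σ.toEmbedding
  have hY := YA_map (K := K) (Om := Om) hO hσ
  refine ⟨?_, ?_, ?_, ?_, ?_⟩
  · intro A i j
    constructor
    · rintro ⟨h1, h2, h3⟩
      refine ⟨(hm A i).mp h1, (hm A j).mp h2, ?_⟩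
      have h3' : chn (OmA Om K (A.map σ.toEmbedding)) (K (σ i)) (K (σ j)) := h3
      have := chn_cj (g := g⁻¹) (T' := OmA Om K A) (fun L hL => by
        rw [← cj_mem_OmA hO hσ, cj_cj_inv]; exact hL) h3'
      rwa [hσ', hσ'] at this
    · rintro ⟨h1, h2, h3⟩
      refine ⟨(hm A i).mpr h1, (hm A j).mpr h2, ?_⟩
      have := chn_cj (g := g) (T' := OmA Om K (A.map σ.toEmbedding))
        (fun L hL => (cj_mem_OmA hO hσ).mpr hL) h3
      rw [hσ, hσ] at this
      exact this
  · intro a b c d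
    change zz (K (σ a)) * zz (K (σ b)) * zz (K (σ c)) * zz (K (σ d)) = 1 ↔
      zz (K a) * zz (K b) * zz (K c) * zz (K d) = 1
    rw [hz', hz', hz', hz']
    have : g * zz (K a) * g⁻¹ * (g * zz (K b) * g⁻¹) * (g * zz (K c) * g⁻¹) *
        (g * zz (K d) * g⁻¹) = g * (zz (K a) * zz (K b) * zz (K c) * zz (K d)) * g⁻¹ := by group
    rw [this, conj_eq_one_iff]
  · intro a b
    change zz (K (σ a)) = zz (K (σ b)) ↔ zz (K a) = zz (K b)
    rw [hz', hz']
    constructor
    · intro h; exact mul_left_cancel (mul_right_cancel h)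
    · intro h; rw [h]
  · intro a
    change (∀ L ∈ OmA Om K {σ a}, L = K (σ a)) ↔ ∀ L ∈ OmA Om K {a}, L = K a
    have hs : ({σ a} : Finset ι) = ({a} : Finset ι).map σ.toEmbedding := by simp
    rw [hs]
    constructor
    · intro h L hL
      have := h (cj g L) ((cj_mem_OmA hO hσ).mpr hL)
      rw [← hσ] at this
      exact cj_injective' g this
    · intro h L hL
      have := h (cj g⁻¹ L) (by rw [← cj_mem_OmA hO hσ, cj_cj_inv]; exact hL)
      rw [← hσ, ← this, cj_cj_inv]
  · intro A k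
    change (∀ x ∈ YA Om K (A.map σ.toEmbedding), x * zz (K (σ k)) = zz (K (σ k)) * x) ↔
      ∀ x ∈ YA Om K A, x * zz (K k) = zz (K k) * x
    rw [hY, hz']
    constructor
    · intro h x hx
      exact conj_comm_iff.mp (h _ (conj_mem_cj hx))
    · intro h x hx
      rw [mem_cj] at hx
      have h1 := (conj_comm_iff (g := g)).mpr (h _ hx)
      have h2 : g * (g⁻¹ * x * g) * g⁻¹ = x := by group
      rwa [h2] at h1

/-! ### Pieces -/

/-- distinct chain classes commute -/
theorem cm_of_not_chn {T : Set (Subgroup G)} {L M L' M' : Subgroup G} (hL' : L' ∈ T) (hM' : M' ∈ T)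
    (h : chn T L L') (h' : chn T M M') (hn : ¬ chn T L M) : cm L' M' := by
  by_contra hc
  exact hn ((h.tail ⟨hL', hM', hc⟩).trans (chn_symm h'))

/-- the piece of `L` -/
def piece (T : Set (Subgroup G)) (L : Subgroup G) : Subgroup G := sSup {M | M ∈ T ∧ chn T L M}

theorem le_piece {T : Set (Subgroup G)} {L M : Subgroup G} (hM : M ∈ T) (h : chn T L M) :
    M ≤ piece T L := le_sSup ⟨hM, h⟩

theorem cm_piece {T : Set (Subgroup G)} {L M : Subgroup G} (hn : ¬ chn T L M) :
    cm (piece T L) (piece T M) := by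
  refine cm_sSup fun L' hL' => cm_symm (cm_sSup fun M' hM' => ?_)
  exact cm_symm (cm_of_not_chn hL'.1 hM'.1 hL'.2 hM'.2 hn)

end Frame

end Cfsg.Agent.Cit.TypeDet
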