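import Cfsg.Agent.Cit.TypeDet.Classes
import Cfsg.Agent.Nodes.Ty
set_option linter.all false

/-!
# Typed kinds

`KT τ B` : the kind of a piece with frame `B` and a chart of type `τ`.  `Data.typed` = the main theorem for a
connected frame with the types of the pieces (`P τ B` : `Y_B` has a chart of type `τ`).
-/

set_option autoImplicit false

namespace Cfsg.Agent.Cit.TypeDet

open Finset Classical
open Cfsg.Agent.Nodes.Chart (Ty)

namespace Data

variable {F : Type*} [Fintype F] {G : Type*} [Group G]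

/-- the kind of a piece of type `τ` with frame `B` -/
def KT (S : Data F G) : Ty → Finset F → Prop
  | .A n, B => B.card = (n + 1) / 2 ∧ (3 ≤ B.card → S.KL B)
  | .B n, B => B.card = 2 * (n / 2) ∧ (3 ≤ B.card → ∃ p, S.KO B p)
  | .C n, B => B.card = n ∧ (3 ≤ B.card → S.KL B)
  | .D n, B => B.card = 2 * (n / 2) ∧ (n = 4 → S.KD4 B) ∧ (5 ≤ n → n % 2 = 1 → ∃ p, S.KO B p) ∧
      (5 ≤ n → n % 2 = 0 → ∃ p, S.KD B p)
  | .E6, B => S.KF B
  | .E7, B => S.KE7 B
  | .E8, B => S.KE8 B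
  | .F4, B => S.KF B
  | .G2, B => B.card = 1

variable {S : Data F G}

theorem KT.kinds {τ : Ty} {B : Finset F} (hB : B.Nonempty) (h : S.KT τ B) : S.Kinds B := by
  have h0 := hB.card_pos
  cases τ with
  | A n =>
    obtain ⟨h1, h2⟩ := h
    by_cases h3 : 3 ≤ B.card
    · exact Or.inr (Or.inr (Or.inl (h2 h3)))
    · by_cases h4 : B.card = 1
      · exact Or.inl h4
      · exact Or.inr (Or.inl (by omega))
  | B n =>
    obtain ⟨h1, h2⟩ := h
    by_cases h3 : 3 ≤ B.card
    · exact Or.inr (Or.inr (Or.inr (Or.inr (Or.inr (Or.inl (h2 h3))))))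
    · by_cases h4 : B.card = 1
      · exact Or.inl h4
      · exact Or.inr (Or.inl (by omega))
  | C n =>
    obtain ⟨h1, h2⟩ := h
    by_cases h3 : 3 ≤ B.card
    · exact Or.inr (Or.inr (Or.inl (h2 h3)))
    · by_cases h4 : B.card = 1
      · exact Or.inl h4
      · exact Or.inr (Or.inl (by omega))
  | D n =>
    obtain ⟨h1, h2, h3, h4⟩ := h
    by_cases h5 : n = 4
    · exact Or.inr (Or.inr (Or.inr (Or.inr (Or.inl (h2 h5)))))
    by_cases h6 : 5 ≤ n
    · rcases Nat.mod_two_eq_zero_or_one n with h7 | h7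
      · exact Or.inr (Or.inr (Or.inr (Or.inr (Or.inr (Or.inr (Or.inl (h4 h6 h7)))))))
      · exact Or.inr (Or.inr (Or.inr (Or.inr (Or.inr (Or.inl (h3 h6 h7))))))
    · exact Or.inr (Or.inl (by omega))
  | E6 => exact Or.inr (Or.inr (Or.inr (Or.inl h)))
  | E7 => exact Or.inr (Or.inr (Or.inr (Or.inr (Or.inr (Or.inr (Or.inr (Or.inl h)))))))
  | E8 => exact Or.inr (Or.inr (Or.inr (Or.inr (Or.inr (Or.inr (Or.inr (Or.inr h)))))))
  | F4 => exact Or.inr (Or.inr (Or.inr (Or.inl h)))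
  | G2 => exact Or.inl h

theorem KT.map {F' : Type*} [Fintype F'] {G' : Type*} [Group G'] {S' : Data F' G'} {f : F' ↪ F} (h : Hom S' S f) {τ : Ty}
    {B : Finset F'} (hB : S'.KT τ B) : S.KT τ (B.map f) := by
  cases τ with
  | A n =>
    obtain ⟨h1, h2⟩ := hB
    refine ⟨by rw [card_map]; exact h1, fun h3 => ?_⟩
    rw [card_map] at h3
    exact (h2 h3).map h
  | B n =>
    obtain ⟨h1, h2⟩ := hB
    refine ⟨by rw [card_map]; exact h1, fun h3 => ?_⟩
    rw [card_map] at h3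
    obtain ⟨p, hp⟩ := h2 h3
    exact ⟨_, hp.map h⟩
  | C n =>
    obtain ⟨h1, h2⟩ := hB
    refine ⟨by rw [card_map]; exact h1, fun h3 => ?_⟩
    rw [card_map] at h3
    exact (h2 h3).map h
  | D n =>
    obtain ⟨h1, h2, h3, h4⟩ := hB
    refine ⟨by rw [card_map]; exact h1, fun h5 => (h2 h5).map h, fun h5 h6 => ?_, fun h5 h6 => ?_⟩
    · obtain ⟨p, hp⟩ := h3 h5 h6
      exact ⟨_, hp.map h⟩
    · obtain ⟨p, hp⟩ := h4 h5 h6
      exact ⟨_, hp.map h⟩
  | E6 => exact Data.KF.map h hB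
  | E7 => exact Data.KE7.map h hB
  | E8 => exact Data.KE8.map h hB
  | F4 => exact Data.KF.map h hB
  | G2 =>
    have h1 : B.card = 1 := hB
    change (B.map f).card = 1
    rw [card_map]; exact h1

/-- kinds with `B - l` connected -/
theorem not_conn_erase_of {B : Finset F} {p : F → F} (h : S.KD4 B ∨ S.KO B p ∨ S.KD B p) :
    4 ≤ B.card ∧ ∀ l ∈ B, ¬ S.Conn (B.erase l) := by
  have key : 4 ≤ B.card → Pairing B p → S.PairSplit B p → ∀ l ∈ B, ¬ S.Conn (B.erase l) := by
    intro h4 hp hs l hl hc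
    obtain ⟨h1, h2, h3⟩ := hp l hl
    have h5 : ((B.erase l).erase (p l)).card = B.card - 2 := by
      rw [card_erase_of_mem (mem_erase.mpr ⟨h2, h1⟩), card_erase_of_mem hl]
      omega
    obtain ⟨x, hx⟩ : ((B.erase l).erase (p l)).Nonempty := card_pos.mp (by omega)
    rw [mem_erase, mem_erase] at hx
    have h6 := (hs l hl (p l) h1 x hx.2.2 h2 hx.2.1).mp
      (hc _ (mem_erase.mpr ⟨h2, h1⟩) _ (mem_erase.mpr ⟨hx.2.1, hx.2.2⟩))
    exact hx.1 (h6.mp rfl)
  rcases h with h | h | h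
  · refine ⟨h.1.ge, fun l hl hc => ?_⟩
    have h3 : (B.erase l).card = 3 := by rw [card_erase_of_mem hl, h.1]
    obtain ⟨a, ha⟩ : (B.erase l).Nonempty := card_pos.mp (by omega)
    obtain ⟨b, hb, hba⟩ := exists_mem_ne (by omega : 1 < (B.erase l).card) a
    exact h.2.1 l hl a ha b hb hba.symm (hc a ha b hb)
  · exact ⟨h.1, key h.1 h.2.1 h.2.2.1⟩
  · exact ⟨by have := h.1; omega, key (by have := h.1; omega) h.2.1 h.2.2.1⟩

/-- **the main theorem for a connected frame, with types**, `r ≥ 5`. -/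
theorem typed (hr : 5 ≤ Fintype.card F) (P : Ty → Finset F → Prop)
    (ht : ∀ k l : F, ∃ σ : Equiv.Perm F, S.IsAut σ ∧
      (∀ τ B, P τ B → P τ (B.map σ.toEmbedding)) ∧ σ k = l)
    (hk : ∀ k i : F, i ≠ k → (S.blk (univ.erase k) i).card ≤ 2 ∨
      ∃ τ, S.KT τ (S.blk (univ.erase k) i) ∧ P τ (S.blk (univ.erase k) i))
    (hconn : ∀ i j, S.app i j) :
    ((∀ k, S.KL (univ.erase k)) ∧
      ((∃ n, (n + 1) / 2 + 1 = Fintype.card F ∧ ∀ k, P (.A n) (univ.erase k)) ∨
        ∃ n, n + 1 = Fintype.card F ∧ ∀ k, P (.C n) (univ.erase k))) ∨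
    (Fintype.card F = 8 ∧ ∀ k, S.KE7 (univ.erase k) ∧ P .E7 (univ.erase k)) ∨
    (Fintype.card F = 7 ∧ ∀ k, (∃ p, S.KD (univ.erase k) p) ∧ P (.D 6) (univ.erase k)) ∨
    (Even (Fintype.card F) ∧ ∃ p : F → F, S.OutO p ∧
      ((∃ n, 2 * (n / 2) + 2 = Fintype.card F ∧ ∀ k, P (.B n) ((univ.erase k).erase (p k))) ∨
        ∃ n, 2 * (n / 2) + 2 = Fintype.card F ∧ ∀ k, P (.D n) ((univ.erase k).erase (p k)))) := by
  have ht' : ∀ k l : F, ∃ σ : Equiv.Perm F, S.IsAut σ ∧ σ k = l := fun k l => by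
    obtain ⟨σ, h1, -, h2⟩ := ht k l
    exact ⟨σ, h1, h2⟩
  have hK : ∀ k i : F, i ≠ k → S.Kinds (S.blk (univ.erase k) i) := by
    intro k i hi
    have h0 : i ∈ S.blk (univ.erase k) i := S.mem_blk.mpr (S.refl (erase_ne_univ k) (mem_er hi))
    have h1 : (S.blk (univ.erase k) i).Nonempty := ⟨i, h0⟩
    rcases hk k i hi with h | ⟨τ, h, -⟩
    · have h2 := h1.card_pos
      by_cases h3 : (S.blk (univ.erase k) i).card = 1
      · exact Or.inl h3
      · exact Or.inr (Or.inl (by omega))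
    · exact h.kinds h1
  have hPt : ∀ (τ : Ty) {k₀ : F}, P τ (univ.erase k₀) → ∀ k, P τ (univ.erase k) := by
    intro τ k₀ h k
    obtain ⟨σ, -, h1, rfl⟩ := ht k₀ k
    rw [← univ_erase_map]
    exact h1 _ _ h
  have hF : Nonempty F := Fintype.card_pos_iff.mp (by omega)
  obtain ⟨k₀⟩ := hF
  by_cases hm : ∃ k : F, ¬ S.Conn (univ.erase k)
  · refine Or.inr (Or.inr (Or.inr ?_))
    obtain ⟨hev, p, hp⟩ := many hr ht' hK (fun A hA hA' => S.exists_of_connected hconn hA hA') hm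
    refine ⟨hev, p, hp, ?_⟩
    have hr6 : 6 ≤ Fintype.card F := by
      obtain ⟨t, ht⟩ := hev
      omega
    obtain ⟨i, hi1, hi2, -⟩ := exists_ne_three (by omega) k₀ (p k₀) k₀
    have hblk : S.blk (univ.erase k₀) i = (univ.erase k₀).erase (p k₀) := (hp.2 k₀).2.2.1 i hi1 hi2
    have hcard : ∀ k, (((univ : Finset F).erase k).erase (p k)).card = Fintype.card F - 2 := by
      intro k
      rw [card_erase_of_mem (mem_er (hp.1 k).1), card_univ_erase]
      omega
    have hPp : ∀ τ : Ty, P τ ((univ.erase k₀).erase (p k₀)) → ∀ k, P τ ((univ.erase k).erase (p k)) := by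
      intro τ h k
      obtain ⟨σ, hσ, h1, rfl⟩ := ht k₀ k
      have h2 : S.blk (univ.erase (σ k₀)) (σ i) = ((univ.erase k₀).erase (p k₀)).map σ.toEmbedding := by
        rw [← hblk, ← (IsAut.rel hσ).blk, univ_erase_map]
      have h3 : (S.blk (univ.erase (σ k₀)) (σ i)).card = Fintype.card F - 2 := by
        rw [h2, card_map, hcard]
      have h4 : σ i ≠ p (σ k₀) := by
        intro e
        rw [e, (hp.2 (σ k₀)).2.1, card_singleton] at h3
        omega
      rw [← (hp.2 (σ k₀)).2.2.1 (σ i) (fun e => hi1 (σ.injective e)) h4, h2]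
      exact h1 _ _ h
    obtain ⟨h4, hnc⟩ := not_conn_erase_of (hp.2 k₀).2.2.2
    have hne : ((univ.erase k₀).erase (p k₀)).Nonempty := card_pos.mp (by omega)
    obtain ⟨l, hl⟩ := hne
    have hc0 := hcard k₀
    rcases hk k₀ i hi1 with h | ⟨τ, hτ, hPτ⟩
    · rw [hblk] at h; omega
    · rw [hblk] at hτ hPτ
      cases τ with
      | A n => exact absurd ((hτ.2 (by omega)).2.1 l hl) (hnc l hl)
      | B n =>
        refine Or.inl ⟨n, ?_, hPp _ hPτ⟩
        have := hτ.1
        omega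
      | C n => exact absurd ((hτ.2 (by omega)).2.1 l hl) (hnc l hl)
      | D n =>
        refine Or.inr ⟨n, ?_, hPp _ hPτ⟩
        have := hτ.1
        omega
      | E6 => exact absurd (hτ.2.1 l hl) (hnc l hl)
      | E7 => exact absurd (hτ.2 l hl) (hnc l hl)
      | E8 => exact absurd (KE8.conn_erase hτ l hl) (hnc l hl)
      | F4 => exact absurd (hτ.2.1 l hl) (hnc l hl)
      | G2 =>
        have : ((univ.erase k₀).erase (p k₀)).card = 1 := hτ
        omega
  · push Not at hm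
    obtain ⟨i, hi, -, -⟩ := exists_ne_three (by omega) k₀ k₀ k₀
    have h1 : S.blk (univ.erase k₀) i = univ.erase k₀ := by
      ext x
      rw [S.mem_blk]
      exact ⟨fun hx => S.memR hx, fun hx => hm k₀ i (mem_er hi) x hx⟩
    have hc0 := card_univ_erase (F := F) k₀
    rcases hk k₀ i hi with h | ⟨τ, hτ, hPτ⟩
    · rw [h1] at h; omega
    · rw [h1] at hτ hPτ
      cases τ with
      | A n =>
        refine Or.inl ⟨transport ht' S.KL (fun σ hσ B hB => hB.map hσ) (hτ.2 (by omega)), Or.inl ⟨n, ?_, hPt _ hPτ⟩⟩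
        have := hτ.1
        omega
      | B n =>
        obtain h2 := hτ.2 (by omega)
        exact (not_KO hr (transport ht' (fun B => ∃ p, S.KO B p)
          (fun σ hσ B ⟨p, hB⟩ => ⟨_, hB.map hσ⟩) h2)).elim
      | C n =>
        refine Or.inl ⟨transport ht' S.KL (fun σ hσ B hB => hB.map hσ) (hτ.2 (by omega)), Or.inr ⟨n, ?_, hPt _ hPτ⟩⟩
        have := hτ.1
        omega
      | D n =>
        obtain ⟨h2, h3, h4, h5⟩ := hτ
        by_cases h6 : n = 4
        · exact (not_KD4 hr (transport ht' S.KD4 (fun σ hσ B hB => hB.map hσ) (h3 h6))).elim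
        have h7 : 5 ≤ n := by omega
        rcases Nat.mod_two_eq_zero_or_one n with h8 | h8
        · have h9 := transport ht' (fun B => ∃ p, S.KD B p) (fun σ hσ B ⟨p, hB⟩ => ⟨_, hB.map hσ⟩) (h5 h7 h8)
          have h10 := card_KD hr h9
          refine Or.inr (Or.inr (Or.inl ⟨h10, fun k => ⟨h9 k, ?_⟩⟩))
          have h11 : n = 6 := by omega
          rw [h11] at hPτ
          exact hPt _ hPτ k
        · exact (not_KO hr (transport ht' (fun B => ∃ p, S.KO B p)
            (fun σ hσ B ⟨p, hB⟩ => ⟨_, hB.map hσ⟩) (h4 h7 h8))).elim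
      | E6 => exact (not_KF hr (transport ht' S.KF (fun σ hσ B hB => hB.map hσ) hτ)).elim
      | E7 =>
        have h2 := transport ht' S.KE7 (fun σ hσ B hB => hB.map hσ) hτ
        refine Or.inr (Or.inl ⟨?_, fun k => ⟨h2 k, hPt _ hPτ k⟩⟩)
        have := (h2 k₀).1
        rw [card_univ_erase] at this
        omega
      | E8 => exact ((not_KE8 (transport ht' S.KE8 (fun σ hσ B hB => hB.map hσ) hτ)).false k₀).elim
      | F4 => exact (not_KF hr (transport ht' S.KF (fun σ hσ B hB => hB.map hσ) hτ)).elim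
      | G2 =>
        have : ((univ : Finset F).erase k₀).card = 1 := hτ
        omega

end Data

end Cfsg.Agent.Cit.TypeDet
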