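import Cfsg.Agent.Nodes.RootKinds
import Cfsg.Agent.Nodes.KindE
import Cfsg.Agent.Nodes.KindF
import Cfsg.Agent.Nodes.KindsOf
import Cfsg.Agent.Nodes.TyStd
import Cfsg.Agent.Cit.TypeDet.Typed
set_option linter.all false

-- part: Nodes/RootKindsEF
section
/-!
helper617: `RKinds` (helper197's root level kinds) for `F4`, `E6`, `E7`, `E8`, standard frames.
-/

set_option autoImplicit false
set_option linter.unusedSectionVars false

namespace Cfsg.Agent.Nodes.RootKindsEF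

open CoxeterSystem Cfsg.Agent.ChevalleyStructure.CoxeterGeom Cfsg.Agent.Tits.Roots Cfsg.Agent.Tits.Core
  Cfsg.Agent.Tits.RootComb Cfsg.Agent.Nodes.Comb Cfsg.Agent.Nodes.SubComb Cfsg.Agent.Nodes.PosPair
  Cfsg.Agent.Nodes.Coroot Cfsg.Agent.Nodes.KindBase Cfsg.Agent.Nodes.KindChev Cfsg.Agent.Nodes.StabComb
  Cfsg.Agent.Nodes.RootKinds Cfsg.Agent.Nodes.Perp
open Cfsg.Lie Cfsg.Agent.ChevalleyStructure Cfsg.Agent.ChevalleyStructure.CoxeterGeomTypes Cfsg.Agent.Nodes.RGDChev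
open Relation

section General

variable {I W κ : Type*} [Fintype I] [DecidableEq I] [Group W] [Fintype W] {M : CoxeterMatrix I}
  {cs : CoxeterSystem M W} {A : I → I → ℤ} {h : IsCartan M A} {R : Set (I → ℤ)} [Fintype κ] [DecidableEq κ]
  {g : κ → I → ℤ}

theorem lk_of_ch {x y f : I → ℤ} (hf : IsRoot cs h f) (H : Ch cs h f x y) : Lk cs h {f} x y := by
  refine ⟨⟨H.1, ?_⟩, ⟨H.2.1, ?_⟩, ?_⟩
  · rintro _ rfl; exact (cpr_zero_iff cs h x hf).1 H.2.2.1
  · rintro _ rfl; exact (cpr_zero_iff cs h y hf).1 H.2.2.2.1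
  · rw [Ne, ← cpr_zero_iff cs h x H.2.1]; exact H.2.2.2.2

/-- `univ - l` is connected if all roots orthogonal to `g l` are joined. -/
theorem conn_erase (F : FrameSys cs h R g)
    (hc : ∀ k x y, IsRoot cs h x → IsRoot cs h y → cpr cs h x (g k) = 0 → cpr cs h y (g k) = 0 →
      ReflTransGen (Ch cs h (g k)) x y) (l : κ) : RootKinds.Conn cs h g (Finset.univ.erase l) := by
  intro i hi j hj
  have h1 : {k : κ | k ∉ Finset.univ.erase l} = {l} := by
    ext k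
    simp
  unfold Chn
  rw [h1, Set.image_singleton]
  have hi' : i ≠ l := (Finset.mem_erase.1 hi).1
  have hj' : j ≠ l := (Finset.mem_erase.1 hj).1
  have hr : ∀ k, IsRoot cs h (g k) := fun k => F.root _ (F.mem k)
  exact (hc l (g i) (g j) (hr i) (hr j) (F.orth i l hi') (F.orth j l hj')).lift id fun x y hxy =>
    lk_of_ch (hr l) hxy

theorem half_linked (F : FrameSys cs h R g) {u : I → ℤ} (hu : u ∈ R) (h2 : (2 : ℤ) • u = ∑ k, g k)
    (h1 : ∀ l, cpr cs h u (g l) = 1) : Half R g ∧ Linked cs h R g := by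
  refine ⟨⟨u, hu, h2⟩, fun l => ⟨u, hu, ?_, ?_, ?_⟩⟩
  · rintro e
    have h3 := h1 l
    rw [e, cpr_self cs h (F.root _ (F.mem l))] at h3
    omega
  · rintro e
    have h3 := h1 l
    rw [e, cpr_neg cs h _ (F.root _ (F.mem l)), cpr_self cs h (F.root _ (F.mem l))] at h3
    omega
  · rw [Ne, ← cpr_zero_iff cs h u (F.root _ (F.mem l)), h1 l]
    norm_num

end General

/-! ### F4 -/

section F4

variable {W : Type*} [Group W] [Fintype W] (cs : CoxeterSystem CoxeterMatrix.F₄ W)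
  (h : IsCartan CoxeterMatrix.F₄ (cartanOf chevF4 4))

set_option backward.isDefEq.respectTransparency false in
theorem half_auxF : ∃ r < chevF4.nroots, qf (cartanOf chevF4 4) KindF.d (vec chevF4 4 r) (vec chevF4 4 r) = 4 ∧
    (∀ i, 2 * vec chevF4 4 r i = ∑ k, KindF.fr k i) ∧ ∀ k, ∑ i, vec chevF4 4 r i * KindF.cf k i = 1 := by
  decide +kernel

theorem half_linkedF : Half (KindF.R cs h) KindF.fr ∧ Linked cs h (KindF.R cs h) KindF.fr := by
  obtain ⟨r, hr, hN, h2, h1⟩ := half_auxF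
  refine half_linked (KindF.frameSys cs h) (u := vec chevF4 4 r) ⟨isRoot_vec KindF.isType cs hr, hN⟩ ?_ fun l => ?_
  · funext i
    rw [Pi.smul_apply, smul_eq_mul, h2, Finset.sum_apply]
  · rw [KindF.cpr_fr]; exact h1 l

/-- **`F4`** -/
theorem rkf_F4 : RKF cs h (KindF.R cs h) KindF.fr :=
  ⟨Fintype.card_fin 4, conn_erase (KindF.frameSys cs h) fun k _ _ hx hy h1 h2 => KindF.conn cs h k hx hy h1 h2,
    half_linkedF cs h⟩

theorem rkinds_F4 : RKinds cs h (KindF.R cs h) KindF.fr := Or.inr (Or.inr (Or.inr (Or.inl (rkf_F4 cs h))))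

end F4

/-! ### E6 -/

section E6

variable {W : Type*} [Group W] [Fintype W] (cs : CoxeterSystem CoxeterMatrix.E₆ W)
  (h : IsCartan CoxeterMatrix.E₆ (cartanOf chevE6 6))

set_option backward.isDefEq.respectTransparency false in
theorem half_aux6 : ∃ r < chevE6.nroots, (∀ i, 2 * vec chevE6 6 r i = ∑ k, KindE.fr6 k i) ∧
    ∀ k, ∑ i, vec chevE6 6 r i * KindE.cf6 k i = 1 := by decide +kernel

theorem half_linked6 : Half (KindE.R6 cs h) KindE.fr6 ∧ Linked cs h (KindE.R6 cs h) KindE.fr6 := by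
  obtain ⟨r, hr, h2, h1⟩ := half_aux6
  refine half_linked (KindE.frameSys6 cs h) (u := vec chevE6 6 r) (isRoot_vec KindE.isType6 cs hr) ?_ fun l => ?_
  · funext i
    rw [Pi.smul_apply, smul_eq_mul, h2, Finset.sum_apply]
  · rw [KindE.cpr_fr6]; exact h1 l

/-- **`E6`** -/
theorem rkf_E6 : RKF cs h (KindE.R6 cs h) KindE.fr6 :=
  ⟨Fintype.card_fin 4, conn_erase (KindE.frameSys6 cs h) fun k _ _ hx hy h1 h2 => KindE.conn6 cs h k hx hy h1 h2,
    half_linked6 cs h⟩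

theorem rkinds_E6 : RKinds cs h (KindE.R6 cs h) KindE.fr6 := Or.inr (Or.inr (Or.inr (Or.inl (rkf_E6 cs h))))

end E6

/-! ### E7 -/

section E7

variable {W : Type*} [Group W] [Fintype W] (cs : CoxeterSystem CoxeterMatrix.E₇ W)
  (h : IsCartan CoxeterMatrix.E₇ (cartanOf chevE7 7))

/-- **`E7`** -/
theorem rke7 : RKE7 cs h KindE.fr7 :=
  ⟨Fintype.card_fin 7, conn_erase (KindE.frameSys7 cs h) fun k _ _ hx hy h1 h2 => KindE.conn7 cs h k hx hy h1 h2⟩

theorem rkinds_E7 : RKinds cs h (KindE.R7 cs h) KindE.fr7 := by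
  unfold RKinds
  exact Or.inr (Or.inr (Or.inr (Or.inr (Or.inr (Or.inr (Or.inr (Or.inl (rke7 cs h))))))))

end E7

/-! ### E8 -/

section E8

variable {W : Type*} [Group W] [Fintype W] (cs : CoxeterSystem CoxeterMatrix.E₈ W)
  (h : IsCartan CoxeterMatrix.E₈ (cartanOf chevE8 8))

set_option backward.isDefEq.respectTransparency false in
/-- The support of a root, not in the frame, is a quadruple. -/
theorem supp_aux : ∀ r < chevE8.nroots, (∃ k, (∀ i, vec chevE8 8 r i = KindE.fr8 k i) ∨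
      ∀ i, vec chevE8 8 r i = -KindE.fr8 k i) ∨
    Finset.univ.filter (fun k => ∑ i, vec chevE8 8 r i * KindE.cf8 k i ≠ 0) ∈ KindE.quads8 := by decide +kernel

set_option backward.isDefEq.respectTransparency false in
/-- Every quadruple is a support. -/
theorem exists_supp : ∀ S ∈ KindE.quads8, ∃ r < chevE8.nroots, ∀ k,
    k ∈ S ↔ ∑ i, vec chevE8 8 r i * KindE.cf8 k i ≠ 0 := by decide +kernel

theorem card_quads8 : ∀ S ∈ KindE.quads8, S.card = 4 := by decide +kernel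

/-- The quadruples form a Steiner system. -/
theorem steiner8_aux : ∀ x y z : Fin 8, x = y ∨ x = z ∨ y = z ∨
    ∃ w, (w ≠ x ∧ w ≠ y ∧ w ≠ z ∧ ({x, y, z, w} : Finset (Fin 8)) ∈ KindE.quads8) ∧
      ∀ w', w' = x ∨ w' = y ∨ w' = z ∨ ({x, y, z, w'} : Finset (Fin 8)) ∉ KindE.quads8 ∨ w' = w := by
  decide +kernel

theorem steiner8 (x y z : Fin 8) (hxy : x ≠ y) (hxz : x ≠ z) (hyz : y ≠ z) :
    ∃ w, (w ≠ x ∧ w ≠ y ∧ w ≠ z ∧ ({x, y, z, w} : Finset (Fin 8)) ∈ KindE.quads8) ∧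
      ∀ w', w' ≠ x → w' ≠ y → w' ≠ z → ({x, y, z, w'} : Finset (Fin 8)) ∈ KindE.quads8 → w' = w := by
  rcases steiner8_aux x y z with h1 | h1 | h1 | ⟨w, h1, h2⟩
  · exact absurd h1 hxy
  · exact absurd h1 hxz
  · exact absurd h1 hyz
  · refine ⟨w, h1, fun w' h3 h4 h5 h6 => ?_⟩
    rcases h2 w' with h | h | h | h | h
    · exact absurd h h3
    · exact absurd h h4
    · exact absurd h h5
    · exact absurd h6 h
    · exact h

theorem conn_of_mem {S : Finset (Fin 8)} (hS : S ∈ KindE.quads8) : RootKinds.Conn cs h KindE.fr8 S := by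
  obtain ⟨r, hr, hk⟩ := exists_supp S hS
  have hroot := isRoot_vec KindE.isType8 cs hr
  have hfr := KindE.isRoot_fr8 cs h
  have hu : vec chevE8 8 r ∈ Perp cs h (KindE.fr8 '' {k | k ∉ S}) := by
    refine ⟨hroot, ?_⟩
    rintro _ ⟨k, hkS, rfl⟩
    rw [← cpr_zero_iff cs h _ (hfr k), KindE.cpr_fr8]
    by_contra h0
    exact hkS ((hk k).2 h0)
  have key : ∀ k ∈ S, Lk cs h (KindE.fr8 '' {k | k ∉ S}) (KindE.fr8 k) (vec chevE8 8 r) := by
    intro k hkS
    refine ⟨⟨hfr k, ?_⟩, hu, ?_⟩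
    · rintro _ ⟨m, hm, rfl⟩
      rw [← cpr_zero_iff cs h _ (hfr m)]
      exact (KindE.frameSys8 cs h).orth k m fun e => hm (e ▸ hkS)
    · rw [form_comm, Ne, ← cpr_zero_iff cs h _ (hfr k), KindE.cpr_fr8]
      exact (hk k).1 hkS
  intro i hi j hj
  exact ReflTransGen.head (key i hi) (ReflTransGen.single (key j hj).symm)

theorem mem_of_conn {S : Finset (Fin 8)} (hS : S.card = 4) (hc : RootKinds.Conn cs h KindE.fr8 S) :
    S ∈ KindE.quads8 := by
  by_contra hn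
  have hfr := KindE.isRoot_fr8 cs h
  -- the roots orthogonal to the complement are in the frame
  have h1 : ∀ x ∈ Perp cs h (KindE.fr8 '' {k | k ∉ S}), ∃ k, x = KindE.fr8 k ∨ x = -KindE.fr8 k := by
    intro x hx
    obtain ⟨r, hr, rfl⟩ := (isRoot_iff KindE.isType8 cs x).1 hx.1
    rcases supp_aux r hr with ⟨k, h2 | h2⟩ | h2
    · exact ⟨k, Or.inl (funext h2)⟩
    · exact ⟨k, Or.inr (funext h2)⟩
    · exfalso
      apply hn
      have h3 : Finset.univ.filter (fun k => ∑ i, vec chevE8 8 r i * KindE.cf8 k i ≠ 0) ⊆ S := by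
        intro k hk
        rw [Finset.mem_filter] at hk
        by_contra hkS
        apply hk.2
        rw [← KindE.cpr_fr8 cs h, cpr_zero_iff cs h _ (hfr k)]
        exact hx.2 _ ⟨k, hkS, rfl⟩
      have h4 := Finset.eq_of_subset_of_card_le h3 (by rw [hS, card_quads8 _ h2])
      rwa [← h4]
  -- chains do not leave `± g i`
  have h2 : ∀ i x, ReflTransGen (Lk cs h (KindE.fr8 '' {k | k ∉ S})) (KindE.fr8 i) x →
      x = KindE.fr8 i ∨ x = -KindE.fr8 i := by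
    intro i x hx
    induction hx with
    | refl => exact Or.inl rfl
    | @tail y z _ h3 ih =>
      obtain ⟨k, hk⟩ := h1 z h3.2.1
      have h4 := h3.2.2
      by_cases hki : k = i
      · subst hki; exact hk
      · exfalso
        have h5 : form cs h (KindE.fr8 i) (KindE.fr8 k) = 0 := by
          rw [← cpr_zero_iff cs h _ (hfr k)]
          exact (KindE.frameSys8 cs h).orth i k (Ne.symm hki)
        apply h4
        rcases ih with rfl | rfl <;> rcases hk with rfl | rfl <;> simp [form_neg_left, form_neg_right, h5]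
  obtain ⟨i, j, hi, hj, hij⟩ : ∃ i j, i ∈ S ∧ j ∈ S ∧ i ≠ j := by
    have : 1 < S.card := by omega
    obtain ⟨i, hi, j, hj, hij⟩ := Finset.one_lt_card.1 this
    exact ⟨i, j, hi, hj, hij⟩
  have h3 := h2 i _ (hc i hi j hj)
  have h4 : cpr cs h (KindE.fr8 j) (KindE.fr8 i) = 0 := (KindE.frameSys8 cs h).orth j i hij.symm
  rcases h3 with h3 | h3
  · rw [h3, cpr_self cs h (hfr i)] at h4
    omega
  · rw [h3, cpr_neg cs h _ (hfr i), cpr_self cs h (hfr i)] at h4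
    omega

/-- **`E8`** -/
theorem rke8 : RKE8 cs h KindE.fr8 := by
  refine ⟨Fintype.card_fin 8, conn_erase (KindE.frameSys8 cs h) fun k _ _ hx hy h1 h2 =>
    KindE.conn8 cs h k hx hy h1 h2, ?_⟩
  intro x y z hxy hxz hyz
  obtain ⟨w, ⟨h1, h2, h3, h4⟩, h5⟩ := steiner8 x y z hxy hxz hyz
  refine ⟨w, ⟨h1, h2, h3, conn_of_mem cs h h4⟩, ?_⟩
  rintro w' ⟨h6, h7, h8, h9⟩
  refine h5 w' h6 h7 h8 (mem_of_conn cs h ?_ h9)
  have e1 : z ∉ ({w'} : Finset (Fin 8)) := by simpa using h8.symm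
  have e2 : y ∉ ({z, w'} : Finset (Fin 8)) := by simpa using ⟨hyz, h7.symm⟩
  have e3 : x ∉ ({y, z, w'} : Finset (Fin 8)) := by simpa using ⟨hxy, hxz, h6.symm⟩
  rw [Finset.card_insert_of_notMem e3, Finset.card_insert_of_notMem e2, Finset.card_insert_of_notMem e1,
    Finset.card_singleton]

theorem rkinds_E8 : RKinds cs h (KindE.R8 cs h) KindE.fr8 := by
  unfold RKinds
  exact Or.inr (Or.inr (Or.inr (Or.inr (Or.inr (Or.inr (Or.inr (Or.inr (rke8 cs h))))))))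

end E8

end Cfsg.Agent.Nodes.RootKindsEF
end

-- part: Cit/TypeDet/KindsEF
section
/-!
helper617: the typed kinds `KT τ univ` of maximal frames of charts of type `E6`, `E7`, `E8`, `F4`, `G2`.
-/

set_option autoImplicit false
set_option linter.unusedSectionVars false

namespace Cfsg.Agent.Cit.TypeDet.KindsEF

open CoxeterSystem Cfsg.Agent.ChevalleyStructure.CoxeterGeom Cfsg.Agent.Tits.Roots Cfsg.Agent.Tits.Core
  Cfsg.Agent.Tits.RootComb Cfsg.Agent.Nodes.Comb Cfsg.Agent.Nodes.SubComb Cfsg.Agent.Nodes.PosPair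
  Cfsg.Agent.Nodes.Coroot Cfsg.Agent.Nodes.KindBase Cfsg.Agent.Nodes.KindChev Cfsg.Agent.Nodes.StabComb
  Cfsg.Agent.Nodes.RootKinds Cfsg.Agent.Nodes.Perp Cfsg.Agent.Nodes.Chart Cfsg.Agent.Nodes.TyStd
open Cfsg.Lie Cfsg.Agent.ChevalleyStructure Cfsg.Agent.ChevalleyStructure.CoxeterGeomTypes Cfsg.Agent.Nodes.RGDChev
open Cfsg.Agent.Nodes

/-! ### The simple roots in `R` -/

section G2

/-- The squared lengths (halved) of the simple roots. -/
def dG : Fin 2 → ℤ := ![1, 3]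

/-- The frame: the highest root. -/
def frG : Fin 1 → Fin 2 → ℤ := ![![3, 2]]

def cfG : Fin 1 → Fin 2 → ℤ := ![![0, 1]]

theorem isTypeG : IsType chevG2 2 CoxeterMatrix.G₂ := by simp [IsType, typeList]

set_option backward.isDefEq.respectTransparency false in
theorem kdG : KD chevG2 2 1 6 dG frG cfG ![11] := by
  constructor <;> decide +kernel

end G2

section Long

variable {W : Type*} [Group W] [Finite W]

theorem long_F4 (cs : CoxeterSystem CoxeterMatrix.F₄ W) (h : IsCartan CoxeterMatrix.F₄ (cartanOf chevF4 4))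
    (i : Fin 4) : sr i ∈ KindF.R cs h ↔ 2 ≤ (i : ℕ) := by
  have h1 := qf_root cs h KindF.kd.hd 1 i
  rw [map_one, Module.End.one_apply] at h1
  have h2 : sr i ∈ KindF.R cs h ↔ 2 * KindF.d i = 4 := by
    rw [← h1]
    exact ⟨fun h => h.2, fun h => ⟨isRoot_sr cs _ i, h⟩⟩
  rw [h2]
  clear h1 h2
  revert i
  decide

theorem long_G2 (cs : CoxeterSystem CoxeterMatrix.G₂ W) (h : IsCartan CoxeterMatrix.G₂ (cartanOf chevG2 2))
    (i : Fin 2) : sr i ∈ RN cs h 6 dG ↔ (i : ℕ) = 1 := by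
  have h1 := qf_root cs h kdG.hd 1 i
  rw [map_one, Module.End.one_apply] at h1
  have h2 : sr i ∈ RN cs h 6 dG ↔ 2 * dG i = 6 := by
    rw [← h1]
    exact ⟨fun h => h.2, fun h => ⟨isRoot_sr cs _ i, h⟩⟩
  rw [h2]
  clear h1 h2
  revert i
  decide

end Long

/-! ### Standard charts with frames -/

section Chart

variable {G : Type*} [Group G] {Om : Set (Subgroup G)} {p : ℕ} {L : Subgroup G}

/-- `E6` -/
theorem exists_rkf_E6 (c : Chart Om p L) (h : c.IsTy .E6) :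
    ∃ (c' : Chart Om p L) (g : Fin 4 → c'.I → ℤ), c'.IsTy .E6 ∧ FrameSys c'.cs c'.h c'.R g ∧
      RKF c'.cs c'.h c'.R g := by
  let cs' : CoxeterSystem CoxeterMatrix.E₆ CoxeterMatrix.E₆.Group := CoxeterMatrix.E₆.toCoxeterSystem
  have hf : Finite CoxeterMatrix.E₆.Group := finite_of_isTy c h cs'
  let _ : Fintype CoxeterMatrix.E₆.Group := Fintype.ofFinite _
  have F := KindE.frameSys6 cs' Ty.E6.isCartan
  have T : ∀ r ∈ KindE.R6 cs' Ty.E6.isCartan, ∀ s ∈ KindE.R6 cs' Ty.E6.isCartan, ∃ w, s = rep cs' Ty.E6.isCartan w r := by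
    intro r hr s hs
    obtain ⟨w, hw⟩ := KindE.trans6 cs' Ty.E6.isCartan hr hs
    exact ⟨w, hw.symm⟩
  obtain ⟨e, hM, hA, hR, h1⟩ := exists_chart_of_isTy c h (W' := CoxeterMatrix.E₆.Group) cs'
    (R' := KindE.R6 cs' Ty.E6.isCartan) F.root F.act (fun i => ⟨fun _ => trivial, fun _ => isRoot_sr _ _ i⟩) T
  exact ⟨reindex c e hM hA cs' Ty.E6.isCartan F.root F.act hR T, KindE.fr6, h1, F, RootKindsEF.rkf_E6 cs' _⟩

/-- `E7` -/
theorem exists_rke7 (c : Chart Om p L) (h : c.IsTy .E7) :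
    ∃ (c' : Chart Om p L) (g : Fin 7 → c'.I → ℤ), c'.IsTy .E7 ∧ FrameSys c'.cs c'.h c'.R g ∧
      RKE7 c'.cs c'.h g := by
  let cs' : CoxeterSystem CoxeterMatrix.E₇ CoxeterMatrix.E₇.Group := CoxeterMatrix.E₇.toCoxeterSystem
  have hf : Finite CoxeterMatrix.E₇.Group := finite_of_isTy c h cs'
  let _ : Fintype CoxeterMatrix.E₇.Group := Fintype.ofFinite _
  have F := KindE.frameSys7 cs' Ty.E7.isCartan
  have T : ∀ r ∈ KindE.R7 cs' Ty.E7.isCartan, ∀ s ∈ KindE.R7 cs' Ty.E7.isCartan, ∃ w, s = rep cs' Ty.E7.isCartan w r := by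
    intro r hr s hs
    obtain ⟨w, hw⟩ := KindE.trans7 cs' Ty.E7.isCartan hr hs
    exact ⟨w, hw.symm⟩
  obtain ⟨e, hM, hA, hR, h1⟩ := exists_chart_of_isTy c h (W' := CoxeterMatrix.E₇.Group) cs'
    (R' := KindE.R7 cs' Ty.E7.isCartan) F.root F.act (fun i => ⟨fun _ => trivial, fun _ => isRoot_sr _ _ i⟩) T
  exact ⟨reindex c e hM hA cs' Ty.E7.isCartan F.root F.act hR T, KindE.fr7, h1, F, RootKindsEF.rke7 cs' _⟩

/-- `E8` -/
theorem exists_rke8 (c : Chart Om p L) (h : c.IsTy .E8) :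
    ∃ (c' : Chart Om p L) (g : Fin 8 → c'.I → ℤ), c'.IsTy .E8 ∧ FrameSys c'.cs c'.h c'.R g ∧
      RKE8 c'.cs c'.h g := by
  let cs' : CoxeterSystem CoxeterMatrix.E₈ CoxeterMatrix.E₈.Group := CoxeterMatrix.E₈.toCoxeterSystem
  have hf : Finite CoxeterMatrix.E₈.Group := finite_of_isTy c h cs'
  let _ : Fintype CoxeterMatrix.E₈.Group := Fintype.ofFinite _
  have F := KindE.frameSys8 cs' Ty.E8.isCartan
  have T : ∀ r ∈ KindE.R8 cs' Ty.E8.isCartan, ∀ s ∈ KindE.R8 cs' Ty.E8.isCartan, ∃ w, s = rep cs' Ty.E8.isCartan w r := by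
    intro r hr s hs
    obtain ⟨w, hw⟩ := KindE.trans8 cs' Ty.E8.isCartan hr hs
    exact ⟨w, hw.symm⟩
  obtain ⟨e, hM, hA, hR, h1⟩ := exists_chart_of_isTy c h (W' := CoxeterMatrix.E₈.Group) cs'
    (R' := KindE.R8 cs' Ty.E8.isCartan) F.root F.act (fun i => ⟨fun _ => trivial, fun _ => isRoot_sr _ _ i⟩) T
  exact ⟨reindex c e hM hA cs' Ty.E8.isCartan F.root F.act hR T, KindE.fr8, h1, F, RootKindsEF.rke8 cs' _⟩

/-- `F4` -/
theorem exists_rkf_F4 (c : Chart Om p L) (h : c.IsTy .F4) :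
    ∃ (c' : Chart Om p L) (g : Fin 4 → c'.I → ℤ), c'.IsTy .F4 ∧ FrameSys c'.cs c'.h c'.R g ∧
      RKF c'.cs c'.h c'.R g := by
  let cs' : CoxeterSystem CoxeterMatrix.F₄ CoxeterMatrix.F₄.Group := CoxeterMatrix.F₄.toCoxeterSystem
  have hf : Finite CoxeterMatrix.F₄.Group := finite_of_isTy c h cs'
  let _ : Fintype CoxeterMatrix.F₄.Group := Fintype.ofFinite _
  have F := KindF.frameSys cs' Ty.F4.isCartan
  have T : ∀ r ∈ KindF.R cs' Ty.F4.isCartan, ∀ s ∈ KindF.R cs' Ty.F4.isCartan, ∃ w, s = rep cs' Ty.F4.isCartan w r := by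
    intro r hr s hs
    obtain ⟨w, hw⟩ := KindF.trans cs' Ty.F4.isCartan hr hs
    exact ⟨w, hw.symm⟩
  obtain ⟨e, hM, hA, hR, h1⟩ := exists_chart_of_isTy c h (W' := CoxeterMatrix.F₄.Group) cs'
    (R' := KindF.R cs' Ty.F4.isCartan) F.root F.act (long_F4 cs' Ty.F4.isCartan) T
  exact ⟨reindex c e hM hA cs' Ty.F4.isCartan F.root F.act hR T, KindF.fr, h1, F, RootKindsEF.rkf_F4 cs' _⟩

/-- `G2` -/
theorem exists_frame_G2 (c : Chart Om p L) (h : c.IsTy .G2) :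
    ∃ (c' : Chart Om p L) (g : Fin 1 → c'.I → ℤ), c'.IsTy .G2 ∧ FrameSys c'.cs c'.h c'.R g := by
  let cs' : CoxeterSystem CoxeterMatrix.G₂ CoxeterMatrix.G₂.Group := CoxeterMatrix.G₂.toCoxeterSystem
  have hf : Finite CoxeterMatrix.G₂.Group := finite_of_isTy c h cs'
  let _ : Fintype CoxeterMatrix.G₂.Group := Fintype.ofFinite _
  have F : FrameSys cs' Ty.G2.isCartan (RN cs' Ty.G2.isCartan 6 dG) frG := kdG.frameSys isTypeG
  have T : ∀ r ∈ RN cs' Ty.G2.isCartan 6 dG, ∀ s ∈ RN cs' Ty.G2.isCartan 6 dG, ∃ w, s = rep cs' Ty.G2.isCartan w r := by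
    intro r hr s hs
    obtain ⟨w, hw⟩ := kdG.trans isTypeG hr hs
    exact ⟨w, hw.symm⟩
  obtain ⟨e, hM, hA, hR, h1⟩ := exists_chart_of_isTy c h (W' := CoxeterMatrix.G₂.Group) cs'
    (R' := RN cs' Ty.G2.isCartan 6 dG) F.root F.act (long_G2 cs' Ty.G2.isCartan) T
  exact ⟨reindex c e hM hA cs' Ty.G2.isCartan F.root F.act hR T, frG, h1, F⟩

end Chart

/-! ### The typed kinds -/

section Main

variable {G : Type*} [Group G] [Finite G] {Om : Set (Subgroup G)} {p : ℕ} {D : Subgroup G}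
  {κ : Type*} [Fintype κ] {K : κ → Subgroup G}
  (hyp : Cfsg.Agent.Cit.Hyp Om) (c : Chart Om p D)
  (hK : ∀ i, K i ∈ OmIn Om D) (hc : ∀ i j, i ≠ j → cm (K i) (K j))
  (hmax : ∀ L' ∈ OmIn Om D, ∃ k, ¬ cm L' (K k))

include hyp c hK hc hmax

theorem kt_E6 (hτ : c.IsTy .E6) : (data (OmIn Om D) K hK hc).KT .E6 Finset.univ := by
  obtain ⟨c', g, -, F, hR⟩ := exists_rkf_E6 c hτ
  exact KindsOf.kf hyp c' F hK hc hmax hR

theorem kt_F4 (hτ : c.IsTy .F4) : (data (OmIn Om D) K hK hc).KT .F4 Finset.univ := by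
  obtain ⟨c', g, -, F, hR⟩ := exists_rkf_F4 c hτ
  exact KindsOf.kf hyp c' F hK hc hmax hR

theorem kt_E7 (hτ : c.IsTy .E7) : (data (OmIn Om D) K hK hc).KT .E7 Finset.univ := by
  obtain ⟨c', g, -, F, hR⟩ := exists_rke7 c hτ
  exact KindsOf.ke7 hyp c' F hK hc hmax hR

theorem kt_E8 (hτ : c.IsTy .E8) : (data (OmIn Om D) K hK hc).KT .E8 Finset.univ := by
  obtain ⟨c', g, -, F, hR⟩ := exists_rke8 c hτ
  exact KindsOf.ke8 hyp c' F hK hc hmax hR

theorem kt_G2 (hτ : c.IsTy .G2) : (data (OmIn Om D) K hK hc).KT .G2 Finset.univ := by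
  obtain ⟨c', g, -, F⟩ := exists_frame_G2 c hτ
  have h1 := KindsOf.card_eq hyp c' F hK hc hmax
  change (Finset.univ : Finset κ).card = 1
  rw [Finset.card_univ, h1, Fintype.card_fin]

end Main

end Cfsg.Agent.Cit.TypeDet.KindsEF
end
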