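import Mathlib
set_option linter.all false

-- part: Cit/TypeDet/Frame
section
/-!
# Type determination for frames: the abstract combinatorial system

`F` is (the index set of) a frame `K_1, …, K_r`; for a proper subset `A` of `F` let
`Y_A := ⟨Om ∩ C(K_k) : k ∉ A⟩`.  `rel A` is the equivalence relation on `A` whose classes are the frames of
the components of `Y_A`.

See bb #6096 (helper124).
-/

set_option autoImplicit false

namespace Cfsg.Agent.Cit.TypeDet

open Finset Classical

/-- block system of a frame -/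
structure Sys (F : Type*) [Fintype F] where
  rel : Finset F → F → F → Prop
  refl : ∀ {A : Finset F} {i : F}, A ≠ univ → i ∈ A → rel A i i
  memL : ∀ {A : Finset F} {i j : F}, rel A i j → i ∈ A
  symm : ∀ {A : Finset F} {i j : F}, rel A i j → rel A j i
  trans : ∀ {A : Finset F} {i j k : F}, rel A i j → rel A j k → rel A i k
  restr : ∀ {A B : Finset F} {i j : F}, A ⊆ B → B ≠ univ → i ∈ A →
    (rel A i j ↔ rel (A.filter (rel B i)) i j)

namespace Sys

variable {F : Type*} [Fintype F] (S : Sys F)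

theorem memR {A : Finset F} {i j : F} (h : S.rel A i j) : j ∈ A := S.memL (S.symm h)

/-- the block of `i` in `A` -/
noncomputable def blk (A : Finset F) (i : F) : Finset F := A.filter (S.rel A i)

theorem mem_blk {A : Finset F} {i j : F} : j ∈ S.blk A i ↔ S.rel A i j := by
  rw [blk, mem_filter]
  exact ⟨fun h => h.2, fun h => ⟨S.memR h, h⟩⟩

theorem blk_subset (A : Finset F) (i : F) : S.blk A i ⊆ A := filter_subset _ _

theorem blk_eq_of_rel {A : Finset F} {i j : F} (h : S.rel A i j) : S.blk A j = S.blk A i := by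
  ext x
  rw [S.mem_blk, S.mem_blk]
  exact ⟨fun hx => S.trans h hx, fun hx => S.trans (S.symm h) hx⟩

theorem mono {A B : Finset F} {i j : F} (hAB : A ⊆ B) (hB : B ≠ univ) (h : S.rel A i j) :
    S.rel B i j := by
  have h1 := (S.restr hAB hB (S.memL h)).mp h
  have h2 := S.memR h1
  rw [mem_filter] at h2
  exact h2.2

/-- `Y_A` has at most one component -/
def Conn (A : Finset F) : Prop := ∀ i ∈ A, ∀ j ∈ A, S.rel A i j

theorem rel_blk {B : Finset F} (hB : B ≠ univ) {i a b : F} (ha : S.rel B i a) :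
    S.rel (S.blk B i) a b ↔ S.rel B a b := by
  rw [S.restr (Subset.refl B) hB (S.memR ha)]
  have : B.filter (S.rel B a) = S.blk B i := S.blk_eq_of_rel ha
  rw [this]

theorem conn_blk {B : Finset F} (hB : B ≠ univ) (i : F) : S.Conn (S.blk B i) := by
  intro a ha b hb
  rw [S.mem_blk] at ha hb
  rw [S.rel_blk hB ha]
  exact S.trans (S.symm ha) hb

/-- a block of `B` contained in `A ⊆ B` is a block of `A` -/
theorem blk_eq_of_subset {A B : Finset F} (hAB : A ⊆ B) (hB : B ≠ univ) {i : F} (hi : i ∈ A)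
    (h : S.blk B i ⊆ A) : S.blk A i = S.blk B i := by
  ext j
  rw [S.mem_blk, S.mem_blk]
  refine ⟨S.mono hAB hB, fun hj => ?_⟩
  rw [S.restr hAB hB hi]
  have h1 : A.filter (S.rel B i) = S.blk B i := by
    ext x
    rw [mem_filter, S.mem_blk]
    exact ⟨fun hx => hx.2, fun hx => ⟨h (S.mem_blk.mpr hx), hx⟩⟩
  rw [h1, S.rel_blk hB (S.refl hB (hAB hi))]
  exact hj

/-- removing points: inside the block -/
theorem rel_inter {A B : Finset F} (hAB : A ⊆ B) (hB : B ≠ univ) {i j : F} (hi : i ∈ A) :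
    S.rel A i j ↔ S.rel (A ∩ S.blk B i) i j := by
  rw [S.restr hAB hB hi]
  have h1 : A.filter (S.rel B i) = A ∩ S.blk B i := by
    ext x
    rw [mem_filter, mem_inter, S.mem_blk]
  rw [h1]

/-- a permutation of the frame induced by an automorphism -/
def IsAut (σ : Equiv.Perm F) : Prop :=
  ∀ (A : Finset F) (i j : F), S.rel (A.map σ.toEmbedding) (σ i) (σ j) ↔ S.rel A i j

theorem IsAut.conn {S : Sys F} {σ : Equiv.Perm F} (h : S.IsAut σ) (A : Finset F) :
    S.Conn (A.map σ.toEmbedding) ↔ S.Conn A := by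
  constructor
  · intro hc i hi j hj
    rw [← h A i j]
    exact hc _ (mem_map_of_mem _ hi) _ (mem_map_of_mem _ hj)
  · intro hc i hi j hj
    obtain ⟨i', hi', rfl⟩ := mem_map.mp hi
    obtain ⟨j', hj', rfl⟩ := mem_map.mp hj
    exact (h A i' j').mpr (hc i' hi' j' hj')

theorem IsAut.blk {S : Sys F} {σ : Equiv.Perm F} (h : S.IsAut σ) (A : Finset F) (i : F) :
    S.blk (A.map σ.toEmbedding) (σ i) = (S.blk A i).map σ.toEmbedding := by
  ext x
  rw [S.mem_blk, mem_map]
  constructor
  · intro hx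
    obtain ⟨x', hx', rfl⟩ := mem_map.mp (S.memR hx)
    exact ⟨x', S.mem_blk.mpr ((h A i x').mp hx), rfl⟩
  · rintro ⟨x', hx', rfl⟩
    exact (h A i x').mpr (S.mem_blk.mp hx')

end Sys

theorem erase_map {F : Type*} (σ : Equiv.Perm F) (A : Finset F) (l : F) :
    (A.map σ.toEmbedding).erase (σ l) = (A.erase l).map σ.toEmbedding := by
  ext x
  simp only [mem_erase, mem_map, Equiv.coe_toEmbedding]
  constructor
  · rintro ⟨hx, y, hy, rfl⟩
    exact ⟨y, ⟨fun h => hx (by rw [h]), hy⟩, rfl⟩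
  · rintro ⟨y, ⟨hy, hyA⟩, rfl⟩
    exact ⟨fun h => hy (σ.injective h), y, hyA, rfl⟩

theorem univ_erase_map {F : Type*} [Fintype F] (σ : Equiv.Perm F) (l : F) :
    ((univ : Finset F).erase l).map σ.toEmbedding = univ.erase (σ l) := by
  rw [← erase_map, Finset.map_univ_equiv]

end Cfsg.Agent.Cit.TypeDet
end

-- part: Cit/TypeDet/Kinds
section
/-!
# The possible kinds of components of `Δ_k` (helper124 #6096, list from theorem T)

All kinds are predicates of a subset `B` of the frame (`B` = frame of the component `E = Y_B`).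
-/

set_option autoImplicit false

namespace Cfsg.Agent.Cit.TypeDet

open Finset Classical

/-- block system together with the involutions `z_i`, the property `Y_{i} = K_i` (`sgl i`) and the relation
'`z_k` centralises `Y_A`' (`cen A k`) -/
structure Data (F : Type*) [Fintype F] (G : Type*) [Group G] extends Sys F where
  z : F → G
  sgl : F → Prop
  cen : Finset F → F → Prop
  cen_of_notMem : ∀ {A : Finset F} {k : F}, k ∉ A → cen A k
  cen_congr : ∀ {A : Finset F} {k l : F}, z k = z l → cen A k → cen A l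

namespace Data

variable {F : Type*} [Fintype F] {G : Type*} [Group G] (S : Data F G)

/-- `∏_{i ∈ B} z_i = 1` for a set `B` of four points -/
def Prod4 (B : Finset F) : Prop :=
  ∀ a b c d, B = {a, b, c, d} → S.z a * S.z b * S.z c * S.z d = 1

/-- `C_n`, `A_n^±` -/
def KL (B : Finset F) : Prop :=
  3 ≤ B.card ∧ (∀ l ∈ B, S.Conn (B.erase l)) ∧ ∀ i ∈ B, ∀ j ∈ B, i ≠ j → S.Conn {i, j}

/-- `F4`, `E6`, `2E6` -/
def KF (B : Finset F) : Prop :=
  B.card = 4 ∧ (∀ l ∈ B, S.Conn (B.erase l)) ∧ S.Prod4 B ∧ ∀ i ∈ B, ∀ j ∈ B, S.z i = S.z j → i = j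

/-- `D4` -/
def KD4 (B : Finset F) : Prop :=
  B.card = 4 ∧ (∀ l ∈ B, ∀ i ∈ B.erase l, ∀ j ∈ B.erase l, i ≠ j → ¬ S.rel (B.erase l) i j) ∧
    S.Prod4 B ∧ (∀ l ∈ B, ¬ S.cen B l) ∧ ∀ l ∈ B, S.sgl l

/-- a fixed point free involution on `B` -/
def Pairing (B : Finset F) (p : F → F) : Prop := ∀ l ∈ B, p l ∈ B ∧ p l ≠ l ∧ p (p l) = l

/-- `B - l` has the two blocks `{l'}` and `B - {l, l'}` -/
def PairSplit (B : Finset F) (p : F → F) : Prop :=
  ∀ l ∈ B, ∀ i ∈ B, ∀ j ∈ B, i ≠ l → j ≠ l → (S.rel (B.erase l) i j ↔ (i = p l ↔ j = p l))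

/-- `B_n`, `2D_n` and `D_n`, `n` odd, of rank `≥ 4` -/
def KO (B : Finset F) (p : F → F) : Prop :=
  4 ≤ B.card ∧ Pairing B p ∧ S.PairSplit B p ∧
    (∀ i ∈ B, ∀ j ∈ B, i ≠ j → (S.Conn {i, j} ↔ j = p i)) ∧ ∀ l ∈ B, S.sgl l

/-- `D_n`, `n ≥ 6` even -/
def KD (B : Finset F) (p : F → F) : Prop :=
  6 ≤ B.card ∧ Pairing B p ∧ S.PairSplit B p ∧
    (∀ A ⊆ B, A.card = 4 → (S.Conn A ↔ ∀ a ∈ A, p a ∈ A)) ∧ ∀ l ∈ B, S.sgl l

/-- `E7` -/
def KE7 (B : Finset F) : Prop := B.card = 7 ∧ ∀ l ∈ B, S.Conn (B.erase l)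

/-- `E8`: the supports of the `D4`'s form a Steiner system `S(3, 4, 8)` -/
def KE8 (B : Finset F) : Prop :=
  B.card = 8 ∧ ∀ x ∈ B, ∀ y ∈ B, ∀ z ∈ B, x ≠ y → x ≠ z → y ≠ z →
    ∃ w ∈ B, w ≠ x ∧ w ≠ y ∧ w ≠ z ∧ S.Conn {x, y, z, w} ∧
      ∀ w' ∈ B, w' ≠ x → w' ≠ y → w' ≠ z → S.Conn {x, y, z, w'} → w' = w

omit [Group G] [Fintype F] in
theorem _root_.Cfsg.Agent.Cit.TypeDet.exists_mem_four {B : Finset F} {n : ℕ} (h : n ≤ B.card) (T : Finset F)
    (hT : T.card < n) : ∃ x ∈ B, x ∉ T := by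
  by_contra hcon
  push Not at hcon
  have := card_le_card (show B ⊆ T from hcon)
  omega

variable {S} in
theorem KE8.conn_erase {B : Finset F} (h : S.KE8 B) : ∀ l ∈ B, S.Conn (B.erase l) := by
  intro l hl i hi j hj
  obtain ⟨h8, h2⟩ := h
  have hne : B.erase l ≠ univ := fun e => (notMem_erase l B) (by rw [e]; exact mem_univ _)
  by_cases hij : i = j
  · rw [hij]; exact S.refl hne hj
  obtain ⟨hil, hiB⟩ := mem_erase.mp hi
  obtain ⟨hjl, hjB⟩ := mem_erase.mp hj
  have key : ∀ z ∈ B, z ≠ i → z ≠ j → z ≠ l → ¬ S.Conn {i, j, z, l} →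
      S.rel (B.erase l) i j := by
    intro z hz hzi hzj hzl hn
    obtain ⟨w, hw, -, -, -, h6, -⟩ := h2 i hiB j hjB z hz hij hzi.symm hzj.symm
    have hwl : w ≠ l := fun e => hn (by rw [← e]; exact h6)
    refine S.mono (A := {i, j, z, w}) ?_ hne (h6 i (by simp) j (by simp))
    intro x hx
    simp only [mem_insert, mem_singleton] at hx
    rcases hx with rfl | rfl | rfl | rfl
    · exact hi
    · exact hj
    · exact mem_erase.mpr ⟨hzl, hz⟩
    · exact mem_erase.mpr ⟨hwl, hw⟩
  have c3 : ({i, j, l} : Finset F).card < 4 := lt_of_le_of_lt card_le_three (by omega)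
  have c4 : ∀ z, ({i, j, l, z} : Finset F).card < 5 := fun z => lt_of_le_of_lt card_le_four (by omega)
  obtain ⟨z, hz, hz'⟩ := exists_mem_four (n := 4) (B := B) (by omega) _ c3
  simp only [mem_insert, mem_singleton, not_or] at hz'
  obtain ⟨y, hy, hy'⟩ := exists_mem_four (n := 5) (B := B) (by omega) _ (c4 z)
  simp only [mem_insert, mem_singleton, not_or] at hy'
  by_cases hc : S.Conn {i, j, z, l}
  · by_cases hc' : S.Conn {i, j, y, l}
    · exfalso
      obtain ⟨w, -, -, -, -, -, h7⟩ := h2 i hiB j hjB l hl hij hil hjl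
      have e1 : ({i, j, z, l} : Finset F) = {i, j, l, z} := by
        ext x; simp only [mem_insert, mem_singleton]; tauto
      have e2 : ({i, j, y, l} : Finset F) = {i, j, l, y} := by
        ext x; simp only [mem_insert, mem_singleton]; tauto
      rw [e1] at hc
      rw [e2] at hc'
      exact hy'.2.2.2 ((h7 y hy hy'.1 hy'.2.1 hy'.2.2.1 hc').trans
        (h7 z hz hz'.1 hz'.2.1 hz'.2.2 hc).symm)
    · exact key y hy hy'.1 hy'.2.1 hy'.2.2.1 hc'
  · exact key z hz hz'.1 hz'.2.1 hz'.2.2 hc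

/-- the list of theorem T -/
def Kinds (B : Finset F) : Prop :=
  B.card = 1 ∨ B.card = 2 ∨ S.KL B ∨ S.KF B ∨ S.KD4 B ∨ (∃ p, S.KO B p) ∨ (∃ p, S.KD B p) ∨
    S.KE7 B ∨ S.KE8 B

/-- embeddings of frames: permutations induced by elements of `N_G(D(S))`, and the inclusion of the frame of a
piece -/
structure Hom {F' : Type*} [Fintype F'] {G' : Type*} [Group G'] (S' : Data F' G') (S : Data F G) (f : F' ↪ F) :
    Prop where
  rel : ∀ A i j, S.rel (A.map f) (f i) (f j) ↔ S'.rel A i j
  prod : ∀ a b c d, S.z (f a) * S.z (f b) * S.z (f c) * S.z (f d) = 1 ↔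
    S'.z a * S'.z b * S'.z c * S'.z d = 1
  eq : ∀ a b, S.z (f a) = S.z (f b) ↔ S'.z a = S'.z b
  sgl : ∀ a, S.sgl (f a) ↔ S'.sgl a
  cen : ∀ A k, S.cen (A.map f) (f k) ↔ S'.cen A k

/-- automorphisms -/
def IsAut (σ : Equiv.Perm F) : Prop := Hom S S σ.toEmbedding

theorem IsAut.rel {S : Data F G} {σ : Equiv.Perm F} (h : S.IsAut σ) : S.toSys.IsAut σ :=
  Hom.rel h

section Map

variable {S} {F' : Type*} [Fintype F'] {G' : Type*} [Group G'] {S' : Data F' G'} {f : F' ↪ F}

omit [Fintype F] [Fintype F'] in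
theorem mem_map_emb (f : F' ↪ F) {A : Finset F'} {x : F'} : f x ∈ A.map f ↔ x ∈ A := by
  simp

omit [Fintype F] [Fintype F'] in
theorem erase_map_emb (f : F' ↪ F) (A : Finset F') (l : F') :
    (A.map f).erase (f l) = (A.erase l).map f := by
  rw [map_erase]

omit [Fintype F] [Fintype F'] in
theorem pair_map_emb (f : F' ↪ F) (i j : F') :
    ({f i, f j} : Finset F) = ({i, j} : Finset F').map f := by
  simp

theorem Hom.conn (h : Hom S' S f) (A : Finset F') : S.Conn (A.map f) ↔ S'.Conn A := by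
  constructor
  · intro hc i hi j hj
    rw [← h.rel A i j]
    exact hc _ (mem_map_of_mem _ hi) _ (mem_map_of_mem _ hj)
  · intro hc i hi j hj
    obtain ⟨i', hi', rfl⟩ := mem_map.mp hi
    obtain ⟨j', hj', rfl⟩ := mem_map.mp hj
    exact (h.rel A i' j').mpr (hc i' hi' j' hj')

theorem Prod4.map (h : Hom S' S f) {B : Finset F'} (hB : S'.Prod4 B) : S.Prod4 (B.map f) := by
  intro a b c d habcd
  have mem : ∀ x : F, x ∈ B.map f ↔ x = a ∨ x = b ∨ x = c ∨ x = d := by
    intro x; rw [habcd]; simp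
  obtain ⟨a, -, rfl⟩ := mem_map.mp ((mem a).mpr (Or.inl rfl))
  obtain ⟨b, -, rfl⟩ := mem_map.mp ((mem b).mpr (Or.inr (Or.inl rfl)))
  obtain ⟨c, -, rfl⟩ := mem_map.mp ((mem c).mpr (Or.inr (Or.inr (Or.inl rfl))))
  obtain ⟨d, -, rfl⟩ := mem_map.mp ((mem d).mpr (Or.inr (Or.inr (Or.inr rfl))))
  rw [h.prod]
  apply hB
  ext x
  rw [← mem_map_emb f, habcd]
  simp

theorem KL.map (h : Hom S' S f) {B : Finset F'} (hB : S'.KL B) : S.KL (B.map f) := by
  obtain ⟨h1, h2, h3⟩ := hB
  refine ⟨by rw [card_map]; exact h1, ?_, ?_⟩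
  · intro l hl
    obtain ⟨l, hl', rfl⟩ := mem_map.mp hl
    rw [erase_map_emb, h.conn]
    exact h2 l hl'
  · intro i hi j hj hij
    obtain ⟨i, hi', rfl⟩ := mem_map.mp hi
    obtain ⟨j, hj', rfl⟩ := mem_map.mp hj
    rw [pair_map_emb, h.conn]
    exact h3 i hi' j hj' (fun e => hij (by rw [e]))

theorem KF.map (h : Hom S' S f) {B : Finset F'} (hB : S'.KF B) : S.KF (B.map f) := by
  obtain ⟨h1, h2, h3, h4⟩ := hB
  refine ⟨by rw [card_map]; exact h1, ?_, h3.map h, ?_⟩
  · intro l hl
    obtain ⟨l, hl', rfl⟩ := mem_map.mp hl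
    rw [erase_map_emb, h.conn]
    exact h2 l hl'
  · intro i hi j hj hij
    obtain ⟨i, hi', rfl⟩ := mem_map.mp hi
    obtain ⟨j, hj', rfl⟩ := mem_map.mp hj
    rw [h.eq] at hij
    rw [h4 i hi' j hj' hij]

theorem sgl_map (h : Hom S' S f) {B : Finset F'} (hB : ∀ l ∈ B, S'.sgl l) :
    ∀ l ∈ B.map f, S.sgl l := by
  intro l hl
  obtain ⟨l, hl', rfl⟩ := mem_map.mp hl
  rw [h.sgl]
  exact hB l hl'

theorem KD4.map (h : Hom S' S f) {B : Finset F'} (hB : S'.KD4 B) : S.KD4 (B.map f) := by
  obtain ⟨h1, h2, h3, h4, h5⟩ := hB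
  refine ⟨by rw [card_map]; exact h1, ?_, h3.map h, ?_, sgl_map h h5⟩
  · intro l hl i hi j hj hij
    obtain ⟨l, hl', rfl⟩ := mem_map.mp hl
    rw [erase_map_emb] at hi hj ⊢
    obtain ⟨i, hi', rfl⟩ := mem_map.mp hi
    obtain ⟨j, hj', rfl⟩ := mem_map.mp hj
    rw [h.rel]
    exact h2 l hl' i hi' j hj' (fun e => hij (by rw [e]))
  · intro l hl
    obtain ⟨l, hl', rfl⟩ := mem_map.mp hl
    rw [h.cen]
    exact h4 l hl'

/-- the pairing on the image -/
noncomputable def pext (f : F' ↪ F) (p : F' → F') : F → F := Function.extend f (f ∘ p) id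

omit [Fintype F] [Fintype F'] in
theorem pext_apply (f : F' ↪ F) (p : F' → F') (x : F') : pext f p (f x) = f (p x) :=
  f.injective.extend_apply _ _ _

omit [Fintype F] [Fintype F'] in
theorem Pairing.map {B : Finset F'} {p : F' → F'} (hB : Pairing B p) (f : F' ↪ F) :
    Pairing (B.map f) (pext f p) := by
  intro l hl
  obtain ⟨l, hl', rfl⟩ := mem_map.mp hl
  obtain ⟨h1, h2, h3⟩ := hB l hl'
  rw [pext_apply, pext_apply]
  exact ⟨(mem_map_emb f).mpr h1, fun e => h2 (f.injective e), by rw [h3]⟩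

theorem PairSplit.map (h : Hom S' S f) {B : Finset F'} {p : F' → F'} (hB : S'.PairSplit B p) :
    S.PairSplit (B.map f) (pext f p) := by
  intro l hl i hi j hj hil hjl
  obtain ⟨l, hl', rfl⟩ := mem_map.mp hl
  obtain ⟨i, hi', rfl⟩ := mem_map.mp hi
  obtain ⟨j, hj', rfl⟩ := mem_map.mp hj
  rw [pext_apply, erase_map_emb, h.rel, hB l hl' i hi' j hj' (fun e => hil (by rw [e]))
    (fun e => hjl (by rw [e])), f.injective.eq_iff, f.injective.eq_iff]

theorem KO.map (h : Hom S' S f) {B : Finset F'} {p : F' → F'} (hB : S'.KO B p) :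
    S.KO (B.map f) (pext f p) := by
  obtain ⟨h1, h2, h3, h4, h5⟩ := hB
  refine ⟨by rw [card_map]; exact h1, h2.map f, h3.map h, ?_, sgl_map h h5⟩
  intro i hi j hj hij
  obtain ⟨i, hi', rfl⟩ := mem_map.mp hi
  obtain ⟨j, hj', rfl⟩ := mem_map.mp hj
  rw [pext_apply, pair_map_emb, h.conn, h4 i hi' j hj' (fun e => hij (by rw [e])),
    f.injective.eq_iff]

theorem KD.map (h : Hom S' S f) {B : Finset F'} {p : F' → F'} (hB : S'.KD B p) :
    S.KD (B.map f) (pext f p) := by
  obtain ⟨h1, h2, h3, h4, h5⟩ := hB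
  refine ⟨by rw [card_map]; exact h1, h2.map f, h3.map h, ?_, sgl_map h h5⟩
  intro A hA hA4
  obtain ⟨A', hA', rfl⟩ := subset_map_iff.mp hA
  rw [card_map] at hA4
  rw [h.conn, h4 A' hA' hA4]
  constructor
  · intro hp a ha
    obtain ⟨a, ha', rfl⟩ := mem_map.mp ha
    rw [pext_apply]
    exact (mem_map_emb f).mpr (hp a ha')
  · intro hp a ha
    have := hp (f a) ((mem_map_emb f).mpr ha)
    rw [pext_apply] at this
    exact (mem_map_emb f).mp this

theorem KE7.map (h : Hom S' S f) {B : Finset F'} (hB : S'.KE7 B) : S.KE7 (B.map f) := by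
  obtain ⟨h1, h2⟩ := hB
  refine ⟨by rw [card_map]; exact h1, ?_⟩
  intro l hl
  obtain ⟨l, hl', rfl⟩ := mem_map.mp hl
  rw [erase_map_emb, h.conn]
  exact h2 l hl'

theorem KE8.map (h : Hom S' S f) {B : Finset F'} (hB : S'.KE8 B) : S.KE8 (B.map f) := by
  obtain ⟨h1, h2⟩ := hB
  have hq : ∀ x y z w : F', S.Conn {f x, f y, f z, f w} ↔ S'.Conn {x, y, z, w} := by
    intro x y z w
    rw [← h.conn]
    simp
  refine ⟨by rw [card_map]; exact h1, ?_⟩
  intro x hx y hy z hz hxy hxz hyz
  obtain ⟨x, hx', rfl⟩ := mem_map.mp hx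
  obtain ⟨y, hy', rfl⟩ := mem_map.mp hy
  obtain ⟨z, hz', rfl⟩ := mem_map.mp hz
  obtain ⟨w, hw, h3, h4, h5, h6, h7⟩ := h2 x hx' y hy' z hz' (fun e => hxy (by rw [e]))
    (fun e => hxz (by rw [e])) (fun e => hyz (by rw [e]))
  refine ⟨f w, mem_map_of_mem _ hw, fun e => h3 (f.injective e), fun e => h4 (f.injective e),
    fun e => h5 (f.injective e), (hq _ _ _ _).mpr h6, ?_⟩
  intro w' hw' h8 h9 h10 h11
  obtain ⟨w', hw'', rfl⟩ := mem_map.mp hw'
  rw [hq] at h11
  rw [h7 w' hw'' (fun e => h8 (by rw [e])) (fun e => h9 (by rw [e])) (fun e => h10 (by rw [e])) h11]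

theorem Kinds.map (h : Hom S' S f) {B : Finset F'} (hB : S'.Kinds B) : S.Kinds (B.map f) := by
  rcases hB with h1 | h1 | h1 | h1 | h1 | ⟨p, h1⟩ | ⟨p, h1⟩ | h1 | h1
  · exact Or.inl (by rw [card_map]; exact h1)
  · exact Or.inr (Or.inl (by rw [card_map]; exact h1))
  · exact Or.inr (Or.inr (Or.inl (h1.map h)))
  · exact Or.inr (Or.inr (Or.inr (Or.inl (h1.map h))))
  · exact Or.inr (Or.inr (Or.inr (Or.inr (Or.inl (h1.map h)))))
  · exact Or.inr (Or.inr (Or.inr (Or.inr (Or.inr (Or.inl ⟨_, h1.map h⟩)))))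
  · exact Or.inr (Or.inr (Or.inr (Or.inr (Or.inr (Or.inr (Or.inl ⟨_, h1.map h⟩))))))
  · exact Or.inr (Or.inr (Or.inr (Or.inr (Or.inr (Or.inr (Or.inr (Or.inl (h1.map h))))))))
  · exact Or.inr (Or.inr (Or.inr (Or.inr (Or.inr (Or.inr (Or.inr (Or.inr (h1.map h))))))))

end Map

end Data

end Cfsg.Agent.Cit.TypeDet
end

-- part: Cit/TypeDet/One
section
/-!
# STEP 2 of #6096: every `Δ_k` has exactly one component, `r ≥ 5`
-/

set_option autoImplicit false

namespace Cfsg.Agent.Cit.TypeDet

open Finset Classical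

namespace Data

variable {F : Type*} [Fintype F] {G : Type*} [Group G] {S : Data F G}

omit [Fintype F] in
theorem even_card_of_pairing {B : Finset F} {p : F → F} (h : Pairing B p) : Even B.card := by
  have h1 : ∑ _x ∈ B, (1 : ZMod 2) = 0 :=
    Finset.sum_involution (fun x _ => p x) (fun x _ => by decide) (fun x hx _ => (h x hx).2.1)
      (fun x hx => (h x hx).1) (fun x hx => (h x hx).2.2)
  rw [sum_const, nsmul_eq_mul, mul_one] at h1
  exact (ZMod.natCast_eq_zero_iff_even).mp h1

theorem z_const (h5 : Fintype.card F = 5) (hP : ∀ k : F, S.Prod4 (univ.erase k)) (d e : F) :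
    S.z d = S.z e := by
  by_cases hde : d = e
  · rw [hde]
  have h1 : (((univ : Finset F).erase d).erase e).card = 3 := by
    rw [card_erase_of_mem (mem_erase.mpr ⟨fun h => hde h.symm, mem_univ _⟩),
      card_erase_of_mem (mem_univ _), card_univ, h5]
  obtain ⟨a, b, c, -, -, -, habc⟩ := card_eq_three.mp h1
  have h2 : ∀ x : F, x ≠ d → x ≠ e → x = a ∨ x = b ∨ x = c := by
    intro x hd he
    have : x ∈ ((univ : Finset F).erase d).erase e :=
      mem_erase.mpr ⟨he, mem_erase.mpr ⟨hd, mem_univ _⟩⟩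
    rw [habc] at this
    simpa using this
  have h3 : ∀ x : F, (x = a ∨ x = b ∨ x = c) → x ≠ d ∧ x ≠ e := by
    intro x hx
    have : x ∈ ({a, b, c} : Finset F) := by simpa using hx
    rw [← habc] at this
    simp only [mem_erase, mem_univ, and_true] at this
    exact ⟨this.2, this.1⟩
  have he : (univ : Finset F).erase e = {a, b, c, d} := by
    ext x
    simp only [mem_erase, mem_univ, and_true, mem_insert, mem_singleton]
    constructor
    · intro hx
      by_cases hd : x = d
      · exact Or.inr (Or.inr (Or.inr hd))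
      · rcases h2 x hd hx with h | h | h
        · exact Or.inl h
        · exact Or.inr (Or.inl h)
        · exact Or.inr (Or.inr (Or.inl h))
    · rintro (h | h | h | h)
      · exact (h3 x (Or.inl h)).2
      · exact (h3 x (Or.inr (Or.inl h))).2
      · exact (h3 x (Or.inr (Or.inr h))).2
      · rw [h]; exact hde
  have hd : (univ : Finset F).erase d = {a, b, c, e} := by
    ext x
    simp only [mem_erase, mem_univ, and_true, mem_insert, mem_singleton]
    constructor
    · intro hx
      by_cases he' : x = e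
      · exact Or.inr (Or.inr (Or.inr he'))
      · rcases h2 x hx he' with h | h | h
        · exact Or.inl h
        · exact Or.inr (Or.inl h)
        · exact Or.inr (Or.inr (Or.inl h))
    · rintro (h | h | h | h)
      · exact (h3 x (Or.inl h)).1
      · exact (h3 x (Or.inr (Or.inl h))).1
      · exact (h3 x (Or.inr (Or.inr h))).1
      · rw [h]; exact fun h => hde h.symm
  have h4 := hP e _ _ _ _ he
  have h5 := hP d _ _ _ _ hd
  rw [← h5] at h4
  exact mul_left_cancel h4

theorem exists_ne_three (hr : 4 ≤ Fintype.card F) (a b c : F) : ∃ x, x ≠ a ∧ x ≠ b ∧ x ≠ c := by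
  by_contra hcon
  push Not at hcon
  have h1 : (univ : Finset F) ⊆ {a, b, c} := by
    intro x _
    simp only [mem_insert, mem_singleton]
    by_cases ha : x = a
    · exact Or.inl ha
    · by_cases hb : x = b
      · exact Or.inr (Or.inl hb)
      · exact Or.inr (Or.inr (hcon x ha hb))
  have h2 := card_le_card h1
  rw [card_univ] at h2
  have h3 := card_le_three (a := a) (b := b) (c := c)
  omega

theorem not_KO (hr : 5 ≤ Fintype.card F) (hK : ∀ k : F, ∃ p, S.KO (univ.erase k) p) : False := by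
  choose p hp using hK
  have hF : Nonempty F := Fintype.card_pos_iff.mp (by omega)
  obtain ⟨l⟩ := hF
  obtain ⟨k, hk, -, -⟩ := exists_ne_three (by omega) l l l
  have mem : ∀ {x y : F}, x ≠ y → x ∈ (univ : Finset F).erase y := fun h =>
    mem_erase.mpr ⟨h, mem_univ _⟩
  have e1 : ∀ x : F, x ≠ l → S.Conn {l, p x l} ∧ p x l ≠ x ∧ p x l ≠ l := by
    intro x hx
    obtain ⟨h1, h2, h3, h4, -⟩ := hp x
    obtain ⟨h5, h6, -⟩ := h2 l (mem hx.symm)
    exact ⟨(h4 l (mem hx.symm) _ h5 h6.symm).mpr rfl, (mem_erase.mp h5).1, h6⟩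
  obtain ⟨c1, -, n1⟩ := e1 k hk
  obtain ⟨c2, n2, n3⟩ := e1 (p k l) n1
  obtain ⟨x, x1, x2, x3⟩ := exists_ne_three (by omega) l (p k l) (p (p k l) l)
  obtain ⟨-, -, -, h4, -⟩ := hp x
  have h5 := (h4 l (mem x1.symm) _ (mem x2.symm) n1.symm).mp c1
  have h6 := (h4 l (mem x1.symm) _ (mem x3.symm) n3.symm).mp c2
  exact n2 (h6.trans h5.symm)

omit [Fintype F] in
theorem card_four {a b c d : F} (hab : a ≠ b) (hac : a ≠ c) (had : a ≠ d) (hbc : b ≠ c)
    (hbd : b ≠ d) (hcd : c ≠ d) : ({a, b, c, d} : Finset F).card = 4 := by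
  rw [card_insert_of_notMem, card_insert_of_notMem, card_insert_of_notMem, card_singleton]
  · simpa using hcd
  · simp [hbc, hbd]
  · simp [hab, hac, had]

theorem exists_notMem {A : Finset F} (h : A.card < Fintype.card F) : ∃ x, x ∉ A := by
  by_contra hcon
  push Not at hcon
  have : (univ : Finset F) ⊆ A := fun x _ => hcon x
  have := card_le_card this
  rw [card_univ] at this
  omega

/-- `l' = m` in `Δ_x` as soon as there are two connected 4-sets through `l, m` missing `x` and meeting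
only in `{l, m}` -/
theorem KD.pair_eq {x : F} {p : F → F} (h : S.KD (univ.erase x) p) {l m a b c d : F}
    (hl : l ≠ x) (hm : m ≠ x) (ha : a ≠ x) (hb : b ≠ x) (hc : c ≠ x) (hd : d ≠ x)
    (hlm : l ≠ m) (hla : l ≠ a) (hlb : l ≠ b) (hlc : l ≠ c) (hld : l ≠ d)
    (hma : m ≠ a) (hmb : m ≠ b) (hmc : m ≠ c) (hmd : m ≠ d) (hab : a ≠ b) (hcd : c ≠ d)
    (hac : a ≠ c) (had : a ≠ d) (hbc : b ≠ c) (hbd : b ≠ d)
    (h1 : S.Conn {l, m, a, b}) (h2 : S.Conn {l, m, c, d}) : p l = m := by
  obtain ⟨-, g2, -, g4, -⟩ := h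
  have s1 : ({l, m, a, b} : Finset F) ⊆ univ.erase x := by
    intro y hy
    simp only [mem_insert, mem_singleton] at hy
    rw [mem_erase]
    refine ⟨?_, mem_univ _⟩
    rcases hy with rfl | rfl | rfl | rfl <;> assumption
  have s2 : ({l, m, c, d} : Finset F) ⊆ univ.erase x := by
    intro y hy
    simp only [mem_insert, mem_singleton] at hy
    rw [mem_erase]
    refine ⟨?_, mem_univ _⟩
    rcases hy with rfl | rfl | rfl | rfl <;> assumption
  have t1 := (g4 _ s1 (card_four hlm hla hlb hma hmb hab)).mp h1 l (by simp)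
  have t2 := (g4 _ s2 (card_four hlm hlc hld hmc hmd hcd)).mp h2 l (by simp)
  have t3 := (g2 l (mem_erase.mpr ⟨hl, mem_univ _⟩)).2.1
  simp only [mem_insert, mem_singleton] at t1 t2
  rcases t1 with t1 | t1 | t1 | t1
  · exact absurd t1 t3
  · exact t1
  · rcases t2 with t2 | t2 | t2 | t2
    · exact absurd t2 t3
    · exact t2
    · exact absurd (t1.symm.trans t2) hac
    · exact absurd (t1.symm.trans t2) had
  · rcases t2 with t2 | t2 | t2 | t2
    · exact absurd t2 t3
    · exact t2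
    · exact absurd (t1.symm.trans t2) hbc
    · exact absurd (t1.symm.trans t2) hbd

theorem exists_seven (hr : 8 ≤ Fintype.card F) (a b c d e f g : F) :
    ∃ x, x ≠ a ∧ x ≠ b ∧ x ≠ c ∧ x ≠ d ∧ x ≠ e ∧ x ≠ f ∧ x ≠ g := by
  have h1 : ({a, b, c, d, e, f, g} : Finset F).card ≤ 7 := by
    refine (card_insert_le _ _).trans ?_
    refine (Nat.add_le_add_right (card_insert_le _ _) 1).trans ?_
    refine (Nat.add_le_add_right (Nat.add_le_add_right (card_insert_le _ _) 1) 1).trans ?_
    have := card_le_four (a := d) (b := e) (c := f) (d := g)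
    omega
  obtain ⟨x, hx⟩ := exists_notMem (F := F) (A := {a, b, c, d, e, f, g}) (by omega)
  simp only [mem_insert, mem_singleton, not_or] at hx
  exact ⟨x, hx.1, hx.2.1, hx.2.2.1, hx.2.2.2.1, hx.2.2.2.2.1, hx.2.2.2.2.2.1, hx.2.2.2.2.2.2⟩

/-- closure of connected 4-sets under the pairing -/
theorem KD.mem_of_conn {x : F} {p : F → F} (h : S.KD (univ.erase x) p) {A : Finset F}
    (hx : x ∉ A) (h4 : A.card = 4) (hA : S.Conn A) {y : F} (hy : y ∈ A) : p y ∈ A := by
  obtain ⟨-, -, -, g4, -⟩ := h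
  exact (g4 A (fun y hy => mem_erase.mpr ⟨fun e => hx (e ▸ hy), mem_univ _⟩) h4).mp hA y hy

theorem KD.conn {x : F} {p : F → F} (h : S.KD (univ.erase x) p) {A : Finset F}
    (hx : x ∉ A) (h4 : A.card = 4) (hA : ∀ y ∈ A, p y ∈ A) : S.Conn A := by
  obtain ⟨-, -, -, g4, -⟩ := h
  exact (g4 A (fun y hy => mem_erase.mpr ⟨fun e => hx (e ▸ hy), mem_univ _⟩) h4).mpr hA

theorem KD.pair {x : F} {p : F → F} (h : S.KD (univ.erase x) p) {y : F} (hy : y ≠ x) :
    p y ≠ x ∧ p y ≠ y ∧ p (p y) = y := by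
  obtain ⟨-, g2, -, -, -⟩ := h
  obtain ⟨h1, h2, h3⟩ := g2 y (mem_erase.mpr ⟨hy, mem_univ _⟩)
  exact ⟨(mem_erase.mp h1).1, h2, h3⟩

theorem KD.conn_pair {x : F} {p : F → F} (h : S.KD (univ.erase x) p) {a c : F} (ha : a ≠ x)
    (hc : c ≠ x) (hca : c ≠ a) (hcp : c ≠ p a) : S.Conn {a, p a, c, p c} := by
  obtain ⟨a1, a2, a3⟩ := h.pair ha
  obtain ⟨c1, c2, c3⟩ := h.pair hc
  have n1 : p c ≠ a := fun e => hcp (by rw [← e, c3])
  have n2 : p c ≠ p a := fun e => hca (by rw [← c3, e, a3])
  refine h.conn ?_ (card_four a2.symm hca.symm n1.symm hcp.symm n2.symm c2.symm) ?_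
  · simp only [mem_insert, mem_singleton, not_or]
    exact ⟨ha.symm, a1.symm, hc.symm, c1.symm⟩
  · intro y hy
    simp only [mem_insert, mem_singleton] at hy ⊢
    rcases hy with rfl | rfl | rfl | rfl
    · exact Or.inr (Or.inl rfl)
    · exact Or.inl a3
    · exact Or.inr (Or.inr (Or.inr rfl))
    · exact Or.inr (Or.inr (Or.inl c3))

theorem not_KD (hr : 9 ≤ Fintype.card F) (hK : ∀ k : F, ∃ p, S.KD (univ.erase k) p) : False := by
  choose p hp using hK
  have hF : Nonempty F := Fintype.card_pos_iff.mp (by omega)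
  obtain ⟨l⟩ := hF
  obtain ⟨k, hk, -, -⟩ := exists_ne_three (by omega) l l l
  obtain ⟨m1, m2, m3⟩ := (hp k).pair hk.symm
  -- `m = p k l`
  have key : ∀ x : F, x ≠ k → x ≠ l → x ≠ p k l → p x l = p k l ∧
      S.Conn {l, p k l, k, p k x} := by
    intro x xk xl xm
    obtain ⟨x1, x2, x3⟩ := (hp k).pair xk
    have x4 : p k x ≠ l := fun e => xm (by rw [← e, x3])
    have x5 : p k x ≠ p k l := fun e => xl (by rw [← x3, e, m3])
    obtain ⟨u, uk, ul, um, ux, ux', -, -⟩ := exists_seven (by omega) k l (p k l) x (p k x) k k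
    obtain ⟨u1, u2, u3⟩ := (hp k).pair uk
    have u4 : p k u ≠ l := fun e => um (by rw [← e, u3])
    have u5 : p k u ≠ p k l := fun e => ul (by rw [← u3, e, m3])
    have u6 : p k u ≠ x := fun e => ux' (by rw [← e, u3])
    have u7 : p k u ≠ p k x := fun e => ux (by rw [← u3, e, x3])
    obtain ⟨v, vk, vl, vm, vx, vx', vu, vu'⟩ :=
      exists_seven (by omega) k l (p k l) x (p k x) u (p k u)
    obtain ⟨v1, v2, v3⟩ := (hp k).pair vk
    have v4 : p k v ≠ l := fun e => vm (by rw [← e, v3])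
    have v5 : p k v ≠ p k l := fun e => vl (by rw [← v3, e, m3])
    have v6 : p k v ≠ x := fun e => vx' (by rw [← e, v3])
    have v7 : p k v ≠ u := fun e => vu' (by rw [← e, v3])
    have v8 : p k v ≠ p k u := fun e => vu (by rw [← v3, e, u3])
    have c1 : S.Conn {l, p k l, u, p k u} := (hp k).conn_pair hk.symm uk ul um
    have c2 : S.Conn {l, p k l, v, p k v} := (hp k).conn_pair hk.symm vk vl vm
    have e1 : p x l = p k l :=
      (hp x).pair_eq xl.symm xm.symm ux u6 vx v6 m2.symm ul.symm u4.symm vl.symm v4.symm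
        um.symm u5.symm vm.symm v5.symm u2.symm v2.symm vu.symm v7.symm vu'.symm v8.symm c1 c2
    refine ⟨e1, ?_⟩
    obtain ⟨l1, l2, l3⟩ := (hp x).pair xl.symm
    obtain ⟨y1, y2, y3⟩ := (hp x).pair x2
    -- `p x y = p k y` for `y` outside `{k, l, m, x, x'}`
    have e2 : ∀ y : F, y ≠ k → y ≠ l → y ≠ p k l → y ≠ x → y ≠ p k x → p x y = p k y := by
      intro y yk yl ym yx yx'
      obtain ⟨z1, z2, z3⟩ := (hp k).pair yk
      have z4 : p k y ≠ l := fun e => ym (by rw [← e, z3])
      have z5 : p k y ≠ p k l := fun e => yl (by rw [← z3, e, m3])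
      have z6 : p k y ≠ x := fun e => yx' (by rw [← e, z3])
      obtain ⟨w1, w2, w3⟩ := (hp x).pair yx
      have c3 : S.Conn {l, p k l, y, p k y} := (hp k).conn_pair hk.symm yk yl ym
      have h1 := (hp x).mem_of_conn (A := {l, p k l, y, p k y})
        (by simp only [mem_insert, mem_singleton, not_or]; exact ⟨xl, xm, yx.symm, z6.symm⟩)
        (card_four m2.symm yl.symm z4.symm ym.symm z5.symm z2.symm) c3 (y := y) (by simp)
      simp only [mem_insert, mem_singleton] at h1
      rcases h1 with h1 | h1 | h1 | h1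
      · exact absurd (by rw [← w3, h1, e1]) ym
      · exact absurd (by rw [← w3, h1, ← e1, l3]) yl
      · exact absurd h1 w2
      · exact h1
    -- `p x x' = k`
    have e3 : p x (p k x) = k := by
      by_contra hne
      by_cases g1 : p x (p k x) = l
      · exact x5 (by rw [← y3, g1, e1])
      by_cases g2 : p x (p k x) = p k l
      · exact x4 (by rw [← y3, g2, ← e1, l3])
      have h1 := e2 _ hne g1 g2 y1 y2
      rw [y3] at h1
      obtain ⟨q1, q2, q3⟩ := (hp k).pair hne
      rw [← h1, x3] at q3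
      exact y1 q3.symm
    have e4 : p x k = p k x :=
      calc p x k = p x (p x (p k x)) := congrArg (p x) e3.symm
        _ = p k x := y3
    refine (hp x).conn ?_ (card_four m2.symm hk.symm x4.symm m1 x5.symm x1.symm) ?_
    · simp only [mem_insert, mem_singleton, not_or]
      exact ⟨xl, xm, xk, x2.symm⟩
    · intro y hy
      simp only [mem_insert, mem_singleton] at hy ⊢
      rcases hy with rfl | rfl | rfl | rfl
      · exact Or.inr (Or.inl e1)
      · left
        rw [← e1, l3]
      · exact Or.inr (Or.inr (Or.inr e4))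
      · exact Or.inr (Or.inr (Or.inl e3))
  obtain ⟨x, xk, xl, xm, -, -, -, -⟩ := exists_seven (by omega) k l (p k l) k k k k
  obtain ⟨x1, x2, x3⟩ := (hp k).pair xk
  have x4 : p k x ≠ l := fun e => xm (by rw [← e, x3])
  have x5 : p k x ≠ p k l := fun e => xl (by rw [← x3, e, m3])
  have c1 := (key x xk xl xm).2
  have c2 := (key (p k x) x1 x4 x5).2
  rw [x3] at c2
  obtain ⟨u, uk, ul, um, ux, ux', -, -⟩ := exists_seven (by omega) k l (p k l) x (p k x) k k
  have e1 := (key u uk ul um).1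
  obtain ⟨l1, l2, l3⟩ := (hp u).pair ul.symm
  obtain ⟨k1, k2, k3⟩ := (hp u).pair uk.symm
  have h1 := (hp u).mem_of_conn (A := {l, p k l, k, p k x})
    (by simp only [mem_insert, mem_singleton, not_or]; exact ⟨ul, um, uk, ux'⟩)
    (card_four m2.symm hk.symm x4.symm m1 x5.symm x1.symm) c1 (y := k) (by simp)
  have h2 := (hp u).mem_of_conn (A := {l, p k l, k, x})
    (by simp only [mem_insert, mem_singleton, not_or]; exact ⟨ul, um, uk, ux⟩)
    (card_four m2.symm hk.symm xl.symm m1 xm.symm xk.symm) c2 (y := k) (by simp)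
  simp only [mem_insert, mem_singleton] at h1 h2
  have n1 : p u k ≠ l := by
    intro e
    rw [e, e1] at k3
    exact m1 k3
  have n2 : p u k ≠ p k l := by
    intro e
    rw [e] at k3
    rw [e1] at l3
    exact hk (k3.symm.trans l3)
  rcases h1 with h1 | h1 | h1 | h1
  · exact n1 h1
  · exact n2 h1
  · exact k2 h1
  · rcases h2 with h2 | h2 | h2 | h2
    · exact n1 h2
    · exact n2 h2
    · exact k2 h2
    · exact x2 (h1.symm.trans h2)

theorem card_univ_erase (k : F) : ((univ : Finset F).erase k).card = Fintype.card F - 1 := by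
  rw [card_erase_of_mem (mem_univ _), card_univ]

theorem not_KF (hr : 5 ≤ Fintype.card F) (h1 : ∀ k : F, S.KF (univ.erase k)) : False := by
  have hF : Nonempty F := Fintype.card_pos_iff.mp (by omega)
  obtain ⟨k₀⟩ := hF
  have h5 : Fintype.card F = 5 := by
    have := (h1 k₀).1
    rw [card_univ_erase] at this
    omega
  have h2 := z_const h5 (fun k => (h1 k).2.2.1)
  obtain ⟨a, ha, -, -⟩ := exists_ne_three (by omega) k₀ k₀ k₀
  obtain ⟨b, hb, hba, -⟩ := exists_ne_three (by omega) k₀ a a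
  exact hba ((h1 k₀).2.2.2 b (mem_erase.mpr ⟨hb, mem_univ _⟩) a (mem_erase.mpr ⟨ha, mem_univ _⟩)
    (h2 b a))

theorem not_KD4 (hr : 5 ≤ Fintype.card F) (h1 : ∀ k : F, S.KD4 (univ.erase k)) : False := by
  have hF : Nonempty F := Fintype.card_pos_iff.mp (by omega)
  obtain ⟨k₀⟩ := hF
  have h5 : Fintype.card F = 5 := by
    have := (h1 k₀).1
    rw [card_univ_erase] at this
    omega
  have h2 := z_const h5 (fun k => (h1 k).2.2.1)
  obtain ⟨a, ha, -, -⟩ := exists_ne_three (by omega) k₀ k₀ k₀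
  exact (h1 k₀).2.2.2.1 a (mem_erase.mpr ⟨ha, mem_univ _⟩)
    (S.cen_congr (h2 k₀ a) (S.cen_of_notMem (notMem_erase _ _)))

theorem not_KE8 (h1 : ∀ k : F, S.KE8 (univ.erase k)) : IsEmpty F := by
  by_contra hne
  rw [not_isEmpty_iff] at hne
  obtain ⟨k₀⟩ := hne
  have h9 : Fintype.card F = 9 := by
    have := (h1 k₀).1
    rw [card_univ_erase] at this
    have h0 : 0 < Fintype.card F := Fintype.card_pos_iff.mpr ⟨k₀⟩
    omega
  have mem : ∀ {x y : F}, x ≠ y → x ∈ (univ : Finset F).erase y := fun h =>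
    mem_erase.mpr ⟨h, mem_univ _⟩
  obtain ⟨x, hx, -, -⟩ := exists_ne_three (by omega) k₀ k₀ k₀
  obtain ⟨y, hy, hyx, -⟩ := exists_ne_three (by omega) k₀ x x
  obtain ⟨z, hz, hzx, hzy⟩ := exists_ne_three (by omega) k₀ x y
  obtain ⟨w, hw, h3, h4, h5, h6, -⟩ := (h1 k₀).2 x (mem hx) y (mem hy) z (mem hz) hyx.symm
    hzx.symm hzy.symm
  obtain ⟨w', hw', h3', h4', h5', h6', -⟩ := (h1 w).2 x (mem h3.symm) y (mem h4.symm) z
    (mem h5.symm) hyx.symm hzx.symm hzy.symm
  have hne : w' ≠ w := (mem_erase.mp hw').1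
  obtain ⟨u, u1, u2, u3, u4, u5, -, -⟩ := exists_seven (by omega) x y z w w' w w'
  obtain ⟨v, -, -, -, -, -, h7⟩ := (h1 u).2 x (mem u1.symm) y (mem u2.symm) z (mem u3.symm)
    hyx.symm hzx.symm hzy.symm
  exact hne ((h7 w' (mem u5.symm) h3' h4' h5' h6').trans
    (h7 w (mem u4.symm) h3 h4 h5 h6).symm)

theorem card_KD (hr : 5 ≤ Fintype.card F) (h1 : ∀ k : F, ∃ p, S.KD (univ.erase k) p) :
    Fintype.card F = 7 := by
  by_cases h9 : 9 ≤ Fintype.card F
  · exact (not_KD h9 h1).elim
  · have hF : Nonempty F := Fintype.card_pos_iff.mp (by omega)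
    obtain ⟨k₀⟩ := hF
    obtain ⟨p, hp⟩ := h1 k₀
    have h6 := hp.1
    rw [card_univ_erase] at h6
    -- parity: a pairing on a set of 7 points does not exist
    have h8 : Even ((univ : Finset F).erase k₀).card := even_card_of_pairing hp.2.1
    rw [card_univ_erase] at h8
    obtain ⟨t, ht⟩ := h8
    omega

theorem transport (ht : ∀ k l : F, ∃ σ : Equiv.Perm F, S.IsAut σ ∧ σ k = l) {k₀ : F}
    (P : Finset F → Prop) (hP : ∀ σ : Equiv.Perm F, S.IsAut σ → ∀ B, P B → P (B.map σ.toEmbedding))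
    (h : P (univ.erase k₀)) (k : F) : P (univ.erase k) := by
  obtain ⟨σ, hσ, rfl⟩ := ht k₀ k
  rw [← univ_erase_map]
  exact hP σ hσ _ h

/-- **STEP 2** -/
theorem one (hr : 5 ≤ Fintype.card F) (ht : ∀ k l : F, ∃ σ : Equiv.Perm F, S.IsAut σ ∧ σ k = l)
    (k₀ : F) (hk : S.Kinds (univ.erase k₀)) :
    (∀ k : F, S.KL (univ.erase k)) ∨
      (Fintype.card F = 8 ∧ ∀ k : F, S.KE7 (univ.erase k)) ∨
        (Fintype.card F = 7 ∧ ∀ k : F, ∃ p, S.KD (univ.erase k) p) := by
  rcases hk with h | h | h | h | h | h | h | h | h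
  · rw [card_univ_erase] at h; omega
  · rw [card_univ_erase] at h; omega
  · exact Or.inl (transport ht S.KL (fun σ hσ B hB => hB.map hσ) h)
  · exact (not_KF hr (transport ht S.KF (fun σ hσ B hB => hB.map hσ) h)).elim
  · exact (not_KD4 hr (transport ht S.KD4 (fun σ hσ B hB => hB.map hσ) h)).elim
  · exact (not_KO hr (transport ht (fun B => ∃ p, S.KO B p)
      (fun σ hσ B ⟨p, hB⟩ => ⟨_, hB.map hσ⟩) h)).elim
  · have h1 := transport ht (fun B => ∃ p, S.KD B p) (fun σ hσ B ⟨p, hB⟩ => ⟨_, hB.map hσ⟩) h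
    exact Or.inr (Or.inr ⟨card_KD hr h1, h1⟩)
  · have h1 := transport ht S.KE7 (fun σ hσ B hB => hB.map hσ) h
    refine Or.inr (Or.inl ⟨?_, h1⟩)
    have := (h1 k₀).1
    rw [card_univ_erase] at this
    omega
  · exact ((not_KE8 (transport ht S.KE8 (fun σ hσ B hB => hB.map hσ) h)).false k₀).elim

end Data

end Cfsg.Agent.Cit.TypeDet
end

-- part: Cit/TypeDet/Many
section
/-!
# STEP 3 of #6096: the frame is connected and `Δ_k` has at least two components, `r ≥ 5`
-/

set_option autoImplicit false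

namespace Cfsg.Agent.Cit.TypeDet

open Finset Classical

namespace Data

variable {F : Type*} [Fintype F] {G : Type*} [Group G] {S : Data F G}

theorem KO.congr {B : Finset F} {p q : F → F} (hpq : ∀ l ∈ B, q l = p l) (h : S.KO B q) :
    S.KO B p := by
  obtain ⟨h1, h2, h3, h4, h5⟩ := h
  refine ⟨h1, ?_, ?_, ?_, h5⟩
  · intro l hl
    obtain ⟨a, b, c⟩ := h2 l hl
    have e := hpq l hl
    rw [← e]
    exact ⟨a, b, by rw [← hpq _ a]; exact c⟩
  · intro l hl i hi j hj hil hjl
    rw [← hpq l hl]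
    exact h3 l hl i hi j hj hil hjl
  · intro i hi j hj hij
    rw [← hpq i hi]
    exact h4 i hi j hj hij

theorem KD.congr {B : Finset F} {p q : F → F} (hpq : ∀ l ∈ B, q l = p l) (h : S.KD B q) :
    S.KD B p := by
  obtain ⟨h1, h2, h3, h4, h5⟩ := h
  refine ⟨h1, ?_, ?_, ?_, h5⟩
  · intro l hl
    obtain ⟨a, b, c⟩ := h2 l hl
    have e := hpq l hl
    rw [← e]
    exact ⟨a, b, by rw [← hpq _ a]; exact c⟩
  · intro l hl i hi j hj hil hjl
    rw [← hpq l hl]
    exact h3 l hl i hi j hj hil hjl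
  · intro A hA hA4
    rw [h4 A hA hA4]
    constructor
    · intro h a ha
      rw [← hpq a (hA ha)]
      exact h a ha
    · intro h a ha
      rw [hpq a (hA ha)]
      exact h a ha

theorem erase_ne_univ (k : F) : (univ : Finset F).erase k ≠ univ := by
  intro e
  have : k ∈ (univ : Finset F).erase k := by rw [e]; exact mem_univ _
  exact (notMem_erase _ _) this

theorem mem_er {x y : F} (h : x ≠ y) : x ∈ (univ : Finset F).erase y :=
  mem_erase.mpr ⟨h, mem_univ _⟩

/-- a connected set of maximal size is a block of every `Δ_m`, `m ∉ B` -/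
theorem blk_eq_of_max {B : Finset F} (hB : S.Conn B)
    (hmax : ∀ k i : F, i ≠ k → (S.blk (univ.erase k) i).card ≤ B.card) {m x : F} (hm : m ∉ B)
    (hx : x ∈ B) : S.blk (univ.erase m) x = B := by
  have hxm : x ≠ m := fun e => hm (e ▸ hx)
  have hsub : B ⊆ univ.erase m := fun y hy => mem_er (fun e => hm (e ▸ hy))
  refine (eq_of_subset_of_card_le (fun y hy => ?_) (hmax m x hxm)).symm
  rw [S.mem_blk]
  exact S.mono hsub (erase_ne_univ m) (hB x hx y hy)

/-- the output of the orthogonal branch -/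
def OutO (S : Data F G) (p : F → F) : Prop :=
  (∀ k : F, p k ≠ k ∧ p (p k) = k) ∧ ∀ k : F, S.sgl k ∧
    S.blk (univ.erase k) (p k) = {p k} ∧
    (∀ i, i ≠ k → i ≠ p k → S.blk (univ.erase k) i = (univ.erase k).erase (p k)) ∧
    (S.KD4 ((univ.erase k).erase (p k)) ∨ S.KO ((univ.erase k).erase (p k)) p ∨
      S.KD ((univ.erase k).erase (p k)) p)

/-- the case `|F - B| = 2` -/
theorem many_three (hr : 5 ≤ Fintype.card F) {b : ℕ} (hb : b + 2 = Fintype.card F)
    (hk : ∀ k i : F, i ≠ k → S.Kinds (S.blk (univ.erase k) i))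
    (hmax : ∀ k i : F, i ≠ k → (S.blk (univ.erase k) i).card ≤ b)
    (hex : ∀ k : F, ∃ i, i ≠ k ∧ (S.blk (univ.erase k) i).card = b) :
    Even (Fintype.card F) ∧ ∃ p : F → F, S.OutO p := by
  have hcard : ∀ k : F, ((univ : Finset F).erase k).card = b + 1 := fun k => by
    rw [card_erase_of_mem (mem_univ _), card_univ]; omega
  choose x hx hxb using hex
  have h1 : ∀ k : F, ∃ y, ((univ : Finset F).erase k) \ S.blk (univ.erase k) (x k) = {y} := by
    intro k
    refine card_eq_one.mp ?_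
    rw [card_sdiff_of_subset (S.blk_subset _ _), hcard, hxb]
    omega
  choose p hp using h1
  have pk : ∀ k, p k ≠ k ∧ p k ∉ S.blk (univ.erase k) (x k) := by
    intro k
    have : p k ∈ ((univ : Finset F).erase k) \ S.blk (univ.erase k) (x k) := by
      rw [hp k]; exact mem_singleton_self _
    rw [mem_sdiff, mem_erase] at this
    exact ⟨this.1.1, this.2⟩
  have hB : ∀ k, S.blk (univ.erase k) (x k) = (univ.erase k).erase (p k) := by
    intro k
    ext y
    constructor
    · intro hy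
      refine mem_erase.mpr ⟨fun e => (pk k).2 (e ▸ hy), S.blk_subset _ _ hy⟩
    · intro hy
      rw [mem_erase] at hy
      by_contra hn
      have : y ∈ ((univ : Finset F).erase k) \ S.blk (univ.erase k) (x k) :=
        mem_sdiff.mpr ⟨hy.2, hn⟩
      rw [hp k, mem_singleton] at this
      exact hy.1 this
  have hconn : ∀ k, S.Conn ((univ.erase k).erase (p k)) := by
    intro k
    rw [← hB k]
    exact S.conn_blk (erase_ne_univ k) _
  have hBc : ∀ k, (((univ : Finset F).erase k).erase (p k)).card = b := by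
    intro k
    rw [← hB k]; exact hxb k
  -- blocks
  have hblk : ∀ k m y : F, m ∉ ((univ : Finset F).erase k).erase (p k) →
      y ∈ ((univ : Finset F).erase k).erase (p k) →
      S.blk (univ.erase m) y = (univ.erase k).erase (p k) := by
    intro k m y hm hy
    exact blk_eq_of_max (hconn k) (fun k' i hi => by rw [hBc]; exact hmax k' i hi) hm hy
  have pp : ∀ k, p (p k) = k := by
    intro k
    -- `B_{p k} = B_k`
    have e1 : ((univ : Finset F).erase k).erase (p k) =
        ((univ : Finset F).erase (p k)).erase (p (p k)) := by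
      -- they meet
      have h2 : ¬ Disjoint (((univ : Finset F).erase k).erase (p k))
          (((univ : Finset F).erase (p k)).erase (p (p k))) := by
        intro hd
        have h3 := card_union_of_disjoint hd
        rw [hBc, hBc] at h3
        have h4 := card_le_univ ((((univ : Finset F).erase k).erase (p k)) ∪
          (((univ : Finset F).erase (p k)).erase (p (p k))))
        have h5 : ((((univ : Finset F).erase k).erase (p k)) ∪
          (((univ : Finset F).erase (p k)).erase (p (p k)))) ⊆ univ.erase (p k) := by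
          intro y hy
          rw [mem_union] at hy
          rcases hy with hy | hy
          · exact mem_er (mem_erase.mp hy).1
          · exact (mem_erase.mp hy).2
        have h6 := card_le_card h5
        rw [hcard, h3] at h6
        omega
      rw [not_disjoint_iff] at h2
      obtain ⟨y, hy1, hy2⟩ := h2
      rw [← hblk k (p k) y (by simp) hy1, ← hblk (p k) (p k) y (by simp) hy2]
    by_contra hne
    have : k ∈ ((univ : Finset F).erase (p k)).erase (p (p k)) :=
      mem_erase.mpr ⟨fun e => hne e.symm, mem_er (pk k).1.symm⟩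
    rw [← e1] at this
    simp at this
  have hpair : ∀ k, p k ≠ k ∧ p (p k) = k := fun k => ⟨(pk k).1, pp k⟩
  have hone : ∀ k, S.blk (univ.erase k) (p k) = {p k} := by
    intro k
    ext y
    rw [mem_singleton]
    constructor
    · intro hy
      by_contra hne
      have hy' := S.blk_subset _ _ hy
      have h2 : y ∈ S.blk (univ.erase k) (x k) := by
        rw [hB k]; exact mem_erase.mpr ⟨hne, hy'⟩
      rw [S.mem_blk] at hy h2
      exact (pk k).2 (S.mem_blk.mpr (S.trans h2 (S.symm hy)))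
    · rintro rfl
      exact S.mem_blk.mpr (S.refl (erase_ne_univ k) (mem_er (pk k).1))
  have hrest : ∀ k i, i ≠ k → i ≠ p k → S.blk (univ.erase k) i = (univ.erase k).erase (p k) := by
    intro k i hik hip
    exact hblk k k i (by simp) (mem_erase.mpr ⟨hip, mem_er hik⟩)
  -- kinds
  have hkind : ∀ k, (S.KD4 ((univ.erase k).erase (p k)) ∨ S.KO ((univ.erase k).erase (p k)) p ∨
      S.KD ((univ.erase k).erase (p k)) p) := by
    intro k
    set B := ((univ : Finset F).erase k).erase (p k) with hBdef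
    have hK : S.Kinds B := by
      have := hk k (x k) (hx k)
      rwa [hB k] at this
    have hpl : ∀ l ∈ B, p l ∈ B := by
      intro l hl
      rw [hBdef, mem_erase, mem_erase] at hl ⊢
      refine ⟨fun e => hl.2.1 ?_, fun e => hl.1 ?_, mem_univ _⟩
      · rw [← pp l, e, pp]
      · rw [← pp l, e]
    have hs : ∀ l ∈ B, ∀ y, S.rel (B.erase l) (p l) y → y = p l := by
      intro l hl y hy
      have h2 : S.rel (univ.erase l) (p l) y :=
        S.mono (fun z hz => mem_er (mem_erase.mp hz).1) (erase_ne_univ l) hy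
      have h3 := S.mem_blk.mpr h2
      rw [hone l, mem_singleton] at h3
      exact h3
    have hB3 : B.card = b := hBc k
    obtain ⟨l, hl⟩ : B.Nonempty := card_pos.mp (by omega)
    have hnc : ¬ S.Conn (B.erase l) := by
      intro hc
      have h2 : (B.erase l).card = b - 1 := by rw [card_erase_of_mem hl, hB3]
      have h3 : 1 < (B.erase l).card := by omega
      obtain ⟨y, hy, hne⟩ := exists_mem_ne h3 (p l)
      exact hne (hs l hl y (hc (p l) (mem_erase.mpr ⟨(pk l).1, hpl l hl⟩) y hy))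
    have huniq : ∀ q : F → F, 4 ≤ B.card → Pairing B q → S.PairSplit B q → ∀ l ∈ B, q l = p l := by
      intro q h4 hq hsplit l hl
      by_contra hne
      have h2 : ((B.erase l).erase (p l)).card = b - 2 := by
        rw [card_erase_of_mem (mem_erase.mpr ⟨(pk l).1, hpl l hl⟩), card_erase_of_mem hl, hB3]
        omega
      have h3 : 1 < ((B.erase l).erase (p l)).card := by omega
      obtain ⟨y, hy, hy2⟩ := exists_mem_ne h3 (q l)
      rw [mem_erase, mem_erase] at hy
      have h5 := (hsplit l hl (p l) (hpl l hl) y hy.2.2 (pk l).1 hy.2.1).mpr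
        ⟨fun e => absurd e.symm hne, fun e => absurd e hy2⟩
      exact hy.1 (hs l hl y h5)
    rcases hK with h | h | h | h | h | ⟨q, h⟩ | ⟨q, h⟩ | h | h
    · omega
    · omega
    · exact absurd (h.2.1 l hl) hnc
    · exact absurd (h.2.1 l hl) hnc
    · exact Or.inl h
    · exact Or.inr (Or.inl (h.congr (huniq q h.1 h.2.1 h.2.2.1)))
    · exact Or.inr (Or.inr (h.congr (huniq q (by have := h.1; omega) h.2.1 h.2.2.1)))
    · exact absurd (h.2 l hl) hnc
    · exact absurd (h.conn_erase l hl) hnc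
  have hsgl : ∀ k, ∀ l ∈ ((univ : Finset F).erase k).erase (p k), S.sgl l := by
    intro k l hl
    rcases hkind k with h | h | h
    · exact h.2.2.2.2 l hl
    · exact h.2.2.2.2 l hl
    · exact h.2.2.2.2 l hl
  refine ⟨?_, p, hpair, fun k => ⟨?_, hone k, hrest k, hkind k⟩⟩
  · have h2 : Pairing (univ : Finset F) p := fun l _ => ⟨mem_univ _, (hpair l).1, (hpair l).2⟩
    have h3 := even_card_of_pairing h2
    rwa [card_univ] at h3
  · obtain ⟨l, h2, h3, -⟩ := exists_ne_three (by omega) k (p k) k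
    refine hsgl l k (mem_erase.mpr ⟨fun e => h3 ?_, mem_er h2.symm⟩)
    rw [e, pp]

theorem mem_map_univ_erase (σ : Equiv.Perm F) (k : F) :
    ((univ : Finset F).erase k).map σ.toEmbedding = univ.erase (σ k) := univ_erase_map σ k

/-- **STEP 3** -/
theorem many (hr : 5 ≤ Fintype.card F)
    (ht : ∀ k l : F, ∃ σ : Equiv.Perm F, S.IsAut σ ∧ σ k = l)
    (hk : ∀ k i : F, i ≠ k → S.Kinds (S.blk (univ.erase k) i))
    (hconn : ∀ A : Finset F, A.Nonempty → A ≠ univ →
      ∃ l, ∃ i ∈ A, ∃ j, j ∉ A ∧ S.rel (univ.erase l) i j)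
    (hm : ∃ k : F, ¬ S.Conn (univ.erase k)) :
    Even (Fintype.card F) ∧ ∃ p : F → F, S.OutO p := by
  have hcard : ∀ k : F, ((univ : Finset F).erase k).card = Fintype.card F - 1 := fun k => by
    rw [card_erase_of_mem (mem_univ _), card_univ]
  -- no `Δ_k` is connected
  have hnc : ∀ k : F, ¬ S.Conn (univ.erase k) := by
    obtain ⟨k₁, hk₁⟩ := hm
    intro k hc
    obtain ⟨σ, hσ, h1⟩ := ht k k₁
    apply hk₁
    rw [← h1, ← univ_erase_map, hσ.rel.conn]
    exact hc
  -- a block of maximal size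
  have hF : Nonempty F := Fintype.card_pos_iff.mp (by omega)
  obtain ⟨a₀⟩ := hF
  obtain ⟨a₁, ha₁, -, -⟩ := exists_ne_three (by omega) a₀ a₀ a₀
  obtain ⟨⟨k₀, i₀⟩, hq, hmax'⟩ := exists_max_image
    ((univ : Finset (F × F)).filter (fun q => q.2 ≠ q.1))
    (fun q => (S.blk (univ.erase q.1) q.2).card) ⟨(a₀, a₁), by simpa using ha₁⟩
  have hi₀ : i₀ ≠ k₀ := by simpa using hq
  have hmax : ∀ k i : F, i ≠ k → (S.blk (univ.erase k) i).card ≤
      (S.blk (univ.erase k₀) i₀).card := fun k i hik =>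
    hmax' (k, i) (by simpa using hik)
  set B := S.blk (univ.erase k₀) i₀ with hBdef
  have hBc : S.Conn B := S.conn_blk (erase_ne_univ _) _
  have hk₀ : k₀ ∉ B := fun h => (mem_erase.mp (S.blk_subset _ _ h)).1 rfl
  have hi₀B : i₀ ∈ B := S.mem_blk.mpr (S.refl (erase_ne_univ _) (mem_er hi₀))
  have hBu : B ≠ univ := fun e => hk₀ (e ▸ mem_univ _)
  have hblk : ∀ {m x : F}, m ∉ B → x ∈ B → S.blk (univ.erase m) x = B := fun hm hx =>
    blk_eq_of_max hBc hmax hm hx
  -- sizes by transitivity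
  have hex : ∀ k : F, ∃ i, i ≠ k ∧ (S.blk (univ.erase k) i).card = B.card := by
    intro k
    obtain ⟨σ, hσ, h1⟩ := ht k₀ k
    refine ⟨σ i₀, fun e => hi₀ (σ.injective (by rw [e, h1])), ?_⟩
    rw [← h1, ← univ_erase_map, hσ.rel.blk, card_map]
  -- the connecting triple
  obtain ⟨l, i, hi, j, hj, hij⟩ := hconn B ⟨i₀, hi₀B⟩ hBu
  have hl : l ∈ B := by
    by_contra hl
    have := S.mem_blk.mpr hij
    rw [hblk hl hi] at this
    exact hj this
  have hil : i ≠ l := (mem_erase.mp (S.memL hij)).1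
  set B' := S.blk (univ.erase l) i with hB'def
  have hB'c : S.Conn B' := S.conn_blk (erase_ne_univ _) _
  have hiB' : i ∈ B' := S.mem_blk.mpr (S.refl (erase_ne_univ _) (mem_er hil))
  have hlB' : l ∉ B' := fun h => (mem_erase.mp (S.blk_subset _ _ h)).1 rfl
  have hjB' : j ∈ B' := S.mem_blk.mpr hij
  have sep : ∀ j', j' ∉ B → j' ∈ B' → ∀ k, k ∉ B → k ≠ j' →
      k ∈ B' ∧ ¬ S.rel (B'.erase k) i j' := by
    intro j' hj' hj'B' k hkB hkj
    have hki : k ≠ i := fun e => hkB (e ▸ hi)
    have habs : ¬ S.rel (univ.erase k) i j' := by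
      intro h
      have := S.mem_blk.mpr h
      rw [hblk hkB hi] at this
      exact hj' this
    constructor
    · by_contra hn
      apply habs
      have h1 : B' ⊆ ((univ : Finset F).erase l).erase k := fun y hy =>
        mem_erase.mpr ⟨fun e => hn (e ▸ hy), S.blk_subset _ _ hy⟩
      have h2 : S.blk (((univ : Finset F).erase l).erase k) i = B' :=
        S.blk_eq_of_subset (erase_subset _ _) (erase_ne_univ _)
          (mem_erase.mpr ⟨hki.symm, mem_er hil⟩) h1
      have h3 : S.rel (((univ : Finset F).erase l).erase k) i j' :=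
        S.mem_blk.mp (by rw [h2]; exact hj'B')
      exact S.mono (erase_subset_erase _ (erase_subset _ _)) (erase_ne_univ _) h3
    · intro h
      exact habs (S.mono (fun y hy => mem_er (mem_erase.mp hy).1) (erase_ne_univ _) h)
  set C := (univ : Finset F) \ B with hC
  have memC : ∀ {x : F}, x ∈ C ↔ x ∉ B := by intro x; rw [hC, mem_sdiff]; simp
  have hCB' : ∀ x ∈ C, x ∈ B' := by
    intro x hx
    rw [memC] at hx
    by_cases hxj : x = j
    · rw [hxj]; exact hjB'
    · exact (sep j hj hjB' x hx hxj).1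
  have hsep : ∀ x ∈ C, ∀ y ∈ C, x ≠ y → ¬ S.rel (B'.erase x) i y := by
    intro x hx y hy hxy
    exact (sep y (memC.mp hy) (hCB' y hy) x (memC.mp hx) hxy).2
  have hCcard : C.card + B.card = Fintype.card F := by
    rw [hC, card_sdiff_of_subset (subset_univ _), card_univ]
    have := card_le_univ B
    omega
  -- `|C| ≥ 2`
  have hC2 : 2 ≤ C.card := by
    by_contra hlt
    have h1 : B = univ.erase k₀ := by
      refine eq_of_subset_of_card_le (S.blk_subset _ _) ?_
      rw [hcard]; omega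
    exact hnc k₀ (h1 ▸ hBc)
  have hiC : i ∉ C := fun h => (memC.mp h) hi
  obtain ⟨x, hx, y, hy, hxy⟩ := one_lt_card.mp (show 1 < C.card by omega)
  have hxi : x ≠ i := fun e => hiC (e ▸ hx)
  have hyi : y ≠ i := fun e => hiC (e ▸ hy)
  have hnB' : ¬ S.Conn (B'.erase x) := by
    intro h
    exact hsep x hx y hy hxy (h i (mem_erase.mpr ⟨hxi.symm, hiB'⟩) y
      (mem_erase.mpr ⟨hxy.symm, hCB' y hy⟩))
  have hB'3 : C.card + 1 ≤ B'.card := by
    rw [← card_insert_of_notMem hiC]
    refine card_le_card (fun z hz => ?_)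
    rw [mem_insert] at hz
    rcases hz with rfl | hz
    · exact hiB'
    · exact hCB' z hz
  -- the pairing argument
  have hpairarg : ∀ q : F → F, Pairing B' q → S.PairSplit B' q → C.card = 2 := by
    intro q hq hsplit
    by_contra hne
    obtain ⟨z, hz, hzxy⟩ : ∃ z ∈ C, z ∉ ({x, y} : Finset F) := by
      by_contra hcon
      push Not at hcon
      have := card_le_card (show C ⊆ {x, y} from hcon)
      have h2 := card_le_two (a := x) (b := y)
      omega
    simp only [mem_insert, mem_singleton, not_or] at hzxy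
    have hq2 : ∀ u ∈ C, ∀ v ∈ C, u ≠ v → q u = i ∨ q u = v := by
      intro u hu v hv huv
      have h1 := hsep u hu v hv huv
      rw [hsplit u (hCB' u hu) i hiB' v (hCB' v hv) (fun e => hiC (e ▸ hu)) huv.symm] at h1
      by_contra h2
      rw [not_or] at h2
      exact h1 ⟨fun e => absurd e.symm h2.1, fun e => absurd e.symm h2.2⟩
    have hqx : q x = i := by
      rcases hq2 x hx y hy hxy with h | h
      · exact h
      · rcases hq2 x hx z hz (Ne.symm hzxy.1) with h' | h'
        · exact h'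
        · exact absurd (h'.symm.trans h) hzxy.2
    have hqy : q y = i := by
      rcases hq2 y hy x hx hxy.symm with h | h
      · exact h
      · rcases hq2 y hy z hz (Ne.symm hzxy.2) with h' | h'
        · exact h'
        · exact absurd (h'.symm.trans h) hzxy.1
    exact hxy (by rw [← (hq x (hCB' x hx)).2.2, ← (hq y (hCB' y hy)).2.2, hqx, hqy])
  -- the `D4` argument
  have hKB' : S.Kinds B' := hk l i hil
  have hfin : C.card = 2 := by
    rcases hKB' with h | h | h | h | h | ⟨q, h⟩ | ⟨q, h⟩ | h | h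
    · omega
    · omega
    · exact absurd (h.2.1 x (hCB' x hx)) hnB'
    · exact absurd (h.2.1 x (hCB' x hx)) hnB'
    · -- `D4`
      by_contra hne
      have hB'4 : B'.card = 4 := h.1
      have hC3 : C.card = 3 := by omega
      -- `|B| = 4`
      have hB4 : B.card = 4 := by
        obtain ⟨w, hwl, hw⟩ := hex l
        by_cases hwB : w ∈ B'
        · have : S.blk (univ.erase l) w = B' := S.blk_eq_of_rel (S.mem_blk.mp hwB)
          rw [this, hB'4] at hw
          exact hw.symm
        · exfalso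
          have hdis : Disjoint (S.blk (univ.erase l) w) B' := by
            rw [disjoint_left]
            intro u hu hu'
            rw [S.mem_blk] at hu hu'
            exact hwB (S.mem_blk.mpr (S.trans hu' (S.symm hu)))
          have h1 := card_union_of_disjoint hdis
          have h2 := card_le_card (union_subset (S.blk_subset (univ.erase l) w)
            (S.blk_subset (univ.erase l) i))
          rw [hcard] at h2
          have h3 : (S.blk (univ.erase l) w ∪ B').card ≤ Fintype.card F - 1 := h2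
          rw [h1, hw, hB'4] at h3
          omega
      have hF7 : Fintype.card F = 7 := by omega
      -- the map `m ↦ B(m)`
      choose w hw hwb using hex
      let g : F → Finset F := fun m => S.blk (univ.erase m) (w m)
      have hg4 : ∀ m, (g m).card = 4 := fun m => (hwb m).trans hB4
      have hgm : ∀ m, m ∉ g m := fun m hm => (mem_erase.mp (S.blk_subset _ _ hm)).1 rfl
      have hgc : ∀ m, S.Conn (g m) := fun m => S.conn_blk (erase_ne_univ _) _
      have hg : ∀ m n, n ∉ g m → g n = g m := by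
        intro m n hn
        have hmeet : ¬ Disjoint (g n) (g m) := by
          intro hd
          have h1 := card_union_of_disjoint hd
          have h2 : g n ∪ g m ⊆ univ.erase n := by
            intro u hu
            rw [mem_union] at hu
            rcases hu with hu | hu
            · exact S.blk_subset _ _ hu
            · exact mem_er (fun e => hn (e ▸ hu))
          have h3 := card_le_card h2
          rw [h1, hg4, hg4, hcard, hF7] at h3
          omega
        rw [not_disjoint_iff] at hmeet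
        obtain ⟨u, hu1, hu2⟩ := hmeet
        have h1 : S.blk (univ.erase n) u = g m :=
          blk_eq_of_max (hgc m) (fun k' i' hi' => by rw [hg4, ← hB4]; exact hmax k' i' hi') hn hu2
        have h2 : S.blk (univ.erase n) u = g n := S.blk_eq_of_rel (S.mem_blk.mp hu1)
        rw [← h1, ← h2]
      have hfib : ∀ T ∈ (univ : Finset F).image g,
          ((univ : Finset F).filter (fun a => g a = T)).card = 3 := by
        intro T hT
        obtain ⟨m, -, rfl⟩ := mem_image.mp hT
        have h1 : (univ : Finset F).filter (fun a => g a = g m) = univ \ g m := by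
          ext u
          rw [mem_filter, mem_sdiff]
          constructor
          · rintro ⟨-, hu⟩
            exact ⟨mem_univ _, by rw [← hu]; exact hgm u⟩
          · rintro ⟨-, hu⟩
            exact ⟨mem_univ _, hg m u hu⟩
        rw [h1, card_sdiff_of_subset (subset_univ _), card_univ, hF7, hg4]
      have hsum := card_eq_sum_card_image g (univ : Finset F)
      rw [sum_congr rfl hfib, sum_const, card_univ, hF7, smul_eq_mul] at hsum
      omega
    · exact hpairarg q h.2.1 h.2.2.1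
    · exact hpairarg q h.2.1 h.2.2.1
    · exact absurd (h.2 x (hCB' x hx)) hnB'
    · exact absurd (h.conn_erase x (hCB' x hx)) hnB'
  exact many_three hr (b := B.card) (by omega) hk hmax hex

end Data

end Cfsg.Agent.Cit.TypeDet
end
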